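import Mathlib

/-!
# Class sizes with small `p`-part: basic facts

`cls x` is the size of the conjugacy class of `x`, `PNil p G` says that the elements of order prime
to `p` are closed under multiplication (equivalently, a normal `p`-complement exists).
-/

set_option autoImplicit false

namespace CfsgLib.ClassSizes.SquareFree

open Subgroup

variable {G : Type*} [Group G]

/-- The size of the class of `x`. -/
noncomputable abbrev cls (x : G) : ℕ := (centralizer ({x} : Set G)).index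

/-- The elements of order prime to `p` are closed under multiplication. -/
def PNil (p : ℕ) (G : Type*) [Group G] : Prop :=
  ∀ a b : G, ¬ p ∣ orderOf a → ¬ p ∣ orderOf b → ¬ p ∣ orderOf (a * b)

/-- `p` is at most every prime divisor of `|G|`. -/
def Small (p : ℕ) (G : Type*) [Group G] : Prop :=
  ∀ r : ℕ, r.Prime → r ∣ Nat.card G → p ≤ r

theorem eq_one_of_orders {p : ℕ} [Fact p.Prime] {g : G} (h1 : ∃ k, orderOf g = p ^ k)
    (h2 : ¬ p ∣ orderOf g) : g = 1 := by
  obtain ⟨k, hk⟩ := h1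
  rcases Nat.eq_zero_or_pos k with rfl | hk0
  · exact orderOf_eq_one_iff.1 (by simpa using hk)
  · exact absurd (hk ▸ dvd_pow_self p hk0.ne') h2

theorem exists_orderOf_eq_of_isPGroup {p : ℕ} [Fact p.Prime] {P : Subgroup G} (hP : IsPGroup p P)
    {u : G} (hu : u ∈ P) : ∃ k, orderOf u = p ^ k := by
  obtain ⟨k, hk⟩ := IsPGroup.iff_orderOf.1 hP ⟨u, hu⟩
  exact ⟨k, by rwa [Subgroup.orderOf_mk] at hk⟩

theorem isPGroup_zpowers {p : ℕ} [Fact p.Prime] {u : G} (hu : ∃ k, orderOf u = p ^ k) :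
    IsPGroup p (zpowers u) := by
  obtain ⟨k, hk⟩ := hu
  exact IsPGroup.of_card (n := k) (by rw [Nat.card_zpowers, hk])

variable [Finite G]

/-- Every element is a product of a `p`-element and a commuting element of order prime to `p`,
both powers of it. -/
theorem exists_parts (p : ℕ) [Fact p.Prime] (g : G) :
    ∃ u y : G, g = u * y ∧ u ∈ zpowers g ∧ y ∈ zpowers g ∧ Commute u y ∧
      (∃ k, orderOf u = p ^ k) ∧ ¬ p ∣ orderOf y := by
  have hp : p.Prime := Fact.out
  obtain ⟨k, m, hm, hkm⟩ := Nat.exists_eq_pow_mul_and_not_dvd (orderOf_pos g).ne' p hp.ne_one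
  have hcop : IsCoprime ((p ^ k : ℕ) : ℤ) ((m : ℕ) : ℤ) :=
    Nat.Coprime.isCoprime ((hp.coprime_iff_not_dvd.2 hm).pow_left k)
  obtain ⟨a, b, hab⟩ := hcop
  refine ⟨g ^ (b * m), g ^ (a * (p ^ k : ℕ)), ?_, zpow_mem (mem_zpowers g) _,
    zpow_mem (mem_zpowers g) _, (Commute.refl g).zpow_zpow _ _, ?_, ?_⟩
  · rw [← zpow_add, add_comm, hab, zpow_one]
  · have h1 : (g ^ (b * (m : ℤ))) ^ (p ^ k) = 1 := by
      rw [← zpow_natCast, ← zpow_mul, show b * (m : ℤ) * ((p ^ k : ℕ) : ℤ) = ((p ^ k * m : ℕ) : ℤ) * b by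
        push_cast; ring, zpow_mul, zpow_natCast, ← hkm, pow_orderOf_eq_one, one_zpow]
    obtain ⟨j, -, hj⟩ := (Nat.dvd_prime_pow hp).1 (orderOf_dvd_of_pow_eq_one h1)
    exact ⟨j, hj⟩
  · have h1 : (g ^ (a * ((p ^ k : ℕ) : ℤ))) ^ m = 1 := by
      rw [← zpow_natCast, ← zpow_mul, show a * ((p ^ k : ℕ) : ℤ) * (m : ℤ) = ((p ^ k * m : ℕ) : ℤ) * a by
        push_cast; ring, zpow_mul, zpow_natCast, ← hkm, pow_orderOf_eq_one, one_zpow]
    exact fun hd => hm (hd.trans (orderOf_dvd_of_pow_eq_one h1))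

theorem not_dvd_orderOf_mul {p : ℕ} [Fact p.Prime] {a b : G} (h : Commute a b)
    (ha : ¬ p ∣ orderOf a) (hb : ¬ p ∣ orderOf b) : ¬ p ∣ orderOf (a * b) := fun hd =>
  ((Fact.out : p.Prime).dvd_mul.1 (hd.trans (h.orderOf_mul_dvd_mul_orderOf))).elim ha hb

/-- An element of order prime to `p` of a quotient lifts to one. -/
theorem exists_lift {p : ℕ} [Fact p.Prime] {K : Type*} [Group K] [Finite K] (f : G →* K)
    (g : G) (hg : ¬ p ∣ orderOf (f g)) : ∃ y : G, ¬ p ∣ orderOf y ∧ f y = f g := by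
  obtain ⟨u, y, he, -, -, hc, ⟨k, hk⟩, hy⟩ := exists_parts p g
  refine ⟨y, hy, ?_⟩
  have hu : f u = 1 := by
    refine eq_one_of_orders (p := p) ?_ ?_
    · obtain ⟨j, -, hj⟩ := (Nat.dvd_prime_pow (Fact.out : p.Prime)).1 (hk ▸ orderOf_map_dvd f u)
      exact ⟨j, hj⟩
    · have : f u = f g * (f y)⁻¹ := by rw [he, map_mul, mul_inv_cancel_right]
      rw [this]
      refine not_dvd_orderOf_mul ?_ hg ?_
      · rw [he, map_mul]
        exact ((hc.map f).mul_left (Commute.refl _)).inv_right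
      · rw [orderOf_inv]
        exact fun hd => hy (hd.trans (orderOf_map_dvd f y))
  rw [he, map_mul, hu, one_mul]

theorem Small.subgroup {p : ℕ} (h : Small p G) (H : Subgroup G) : Small p H :=
  fun r hr hd => h r hr (hd.trans H.card_subgroup_dvd_card)

theorem Small.quotient {p : ℕ} (h : Small p G) (N : Subgroup G) [N.Normal] : Small p (G ⧸ N) :=
  fun r hr hd => h r hr (hd.trans (by
    rw [N.card_eq_card_quotient_mul_card_subgroup]; exact dvd_mul_right _ _))

theorem cls_map_dvd {K : Type*} [Group K] {f : G →* K} (hf : Function.Surjective f) (x : G) :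
    cls (f x) ∣ cls x := by
  refine (index_dvd_of_le (?_ : (centralizer ({x} : Set G)).map f ≤ _)).trans (index_map_dvd _ hf)
  rintro _ ⟨c, hc, rfl⟩
  rw [SetLike.mem_coe, mem_centralizer_singleton_iff] at hc
  rw [mem_centralizer_singleton_iff, ← map_mul, ← map_mul, hc]

theorem cls_subgroup {H : Subgroup G} (x : H) :
    cls x = (centralizer ({(x : G)} : Set G)).relIndex H := by
  unfold cls Subgroup.relIndex
  congr 1
  ext y
  rw [mem_centralizer_singleton_iff, mem_subgroupOf, mem_centralizer_singleton_iff, Subtype.ext_iff]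
  rfl

/-- Burnside: `N(P) ≤ C(P)` gives `PNil`. -/
theorem pNil_of_normalizer_le {p : ℕ} [Fact p.Prime] (P : Sylow p G)
    (hP : normalizer ((P : Subgroup G) : Set G) ≤ centralizer ((P : Subgroup G) : Set G)) :
    PNil p G := by
  intro a b ha hb
  have hk : ∀ x : G, ¬ p ∣ orderOf x → x ∈ (MonoidHom.transferSylow P hP).ker := by
    intro x hx
    rw [MonoidHom.mem_ker]
    exact eq_one_of_orders (IsPGroup.iff_orderOf.1 P.isPGroup' _)
      fun hd => hx (hd.trans (orderOf_map_dvd _ x))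
  refine fun hd => MonoidHom.not_dvd_card_ker_transferSylow P hP (hd.trans ?_)
  rw [← Subgroup.orderOf_mk _ (mul_mem (hk a ha) (hk b hb))]
  exact orderOf_dvd_natCard _

theorem PNil.subgroup {p : ℕ} (h : PNil p G) (H : Subgroup G) : PNil p H := fun a b ha hb => by
  rw [← Subgroup.orderOf_coe] at ha hb ⊢
  exact h _ _ ha hb

/-- The subgroup of elements of order prime to `p`. -/
def pNilKer {p : ℕ} [Fact p.Prime] (h : PNil p G) : Subgroup G where
  carrier := {x | ¬ p ∣ orderOf x}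
  one_mem' := by simp [(Fact.out : p.Prime).ne_one]
  mul_mem' ha hb := h _ _ ha hb
  inv_mem' := by intro x hx; simpa using hx

theorem mem_pNilKer {p : ℕ} [Fact p.Prime] {h : PNil p G} {x : G} :
    x ∈ pNilKer h ↔ ¬ p ∣ orderOf x := Iff.rfl

instance pNilKer_normal {p : ℕ} [Fact p.Prime] (h : PNil p G) : (pNilKer h).Normal :=
  ⟨fun x hx g => by
    rw [mem_pNilKer] at hx ⊢
    rwa [show g * x * g⁻¹ = MulAut.conj g x by simp, MulEquiv.orderOf_eq]⟩

theorem not_dvd_card_pNilKer {p : ℕ} [Fact p.Prime] (h : PNil p G) :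
    ¬ p ∣ Nat.card (pNilKer h) := by
  intro hd
  obtain ⟨x, hx⟩ := exists_prime_orderOf_dvd_card' p hd
  exact mem_pNilKer.1 x.2 (by rw [Subgroup.orderOf_coe, hx])

theorem isPGroup_quotient_pNilKer {p : ℕ} [Fact p.Prime] (h : PNil p G) :
    IsPGroup p (G ⧸ pNilKer h) := by
  rw [IsPGroup.iff_orderOf]
  intro q
  obtain ⟨g, rfl⟩ := QuotientGroup.mk'_surjective _ q
  obtain ⟨u, y, he, -, -, -, ⟨k, hk⟩, hy⟩ := exists_parts p g
  have : QuotientGroup.mk' (pNilKer h) g = QuotientGroup.mk' (pNilKer h) u := by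
    rw [he, map_mul, (QuotientGroup.eq_one_iff y).2 (mem_pNilKer.2 hy) |> fun e => (show
      QuotientGroup.mk' (pNilKer h) y = 1 from e), mul_one]
  obtain ⟨j, -, hj⟩ := (Nat.dvd_prime_pow (Fact.out : p.Prime)).1
    (hk ▸ orderOf_map_dvd (QuotientGroup.mk' (pNilKer h)) u)
  exact ⟨j, this ▸ hj⟩

/-- A central `p`-element whose quotient is `p`-nilpotent. -/
theorem pNil_of_central {p : ℕ} [Fact p.Prime] {Z : Subgroup G} [Z.Normal]
    (hZ : Z ≤ center G) (hZp : IsPGroup p Z) (h : PNil p (G ⧸ Z)) : PNil p G := by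
  set f := QuotientGroup.mk' Z
  let K := (pNilKer h).comap f
  have hK : ∀ x : G, ¬ p ∣ orderOf x → x ∈ K := fun x hx =>
    (mem_pNilKer (h := h)).2 fun hd => hx (hd.trans (orderOf_map_dvd f x))
  obtain ⟨S⟩ := (Sylow.nonempty : Nonempty (Sylow p K))
  have hS : normalizer ((S : Subgroup K) : Set K) ≤ centralizer ((S : Subgroup K) : Set K) := by
    intro a _
    rw [mem_centralizer_iff]
    intro s hs
    obtain ⟨k, hk⟩ := exists_orderOf_eq_of_isPGroup S.isPGroup' hs
    have h1 : f (s : G) = 1 := by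
      refine eq_one_of_orders (p := p) ?_ ((mem_pNilKer (h := h)).1 s.2)
      obtain ⟨j, -, hj⟩ := (Nat.dvd_prime_pow (Fact.out : p.Prime)).1
        ((Subgroup.orderOf_coe s).trans hk ▸ orderOf_map_dvd f (s : G))
      exact ⟨j, hj⟩
    have hsZ : (s : G) ∈ Z := (QuotientGroup.eq_one_iff _).1 h1
    exact Subtype.ext (mem_center_iff.1 (hZ hsZ) a).symm
  intro a b ha hb
  have := pNil_of_normalizer_le S hS ⟨a, hK a ha⟩ ⟨b, hK b hb⟩
    (by rwa [Subgroup.orderOf_mk]) (by rwa [Subgroup.orderOf_mk])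
  rwa [← Subgroup.orderOf_coe] at this

/-- The `p`-part of a class size seen through Sylow subgroups. -/
theorem exists_sylow_centralizer {p : ℕ} [Fact p.Prime] {x : G} (hx : ¬ p ^ 2 ∣ cls x)
    {V : Subgroup G} (hV : IsPGroup p V) (hVc : V ≤ centralizer ({x} : Set G)) :
    ∃ (U : Sylow p G) (T : Subgroup G), V ≤ T ∧ T ≤ (U : Subgroup G) ∧
      T ≤ centralizer ({x} : Set G) ∧ IsPGroup p T ∧
      ¬ p ∣ T.relIndex (centralizer ({x} : Set G)) ∧ T.relIndex (U : Subgroup G) ∣ p := by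
  have hp : p.Prime := Fact.out
  set C := centralizer ({x} : Set G)
  obtain ⟨T₀, hT₀⟩ := (hV.comap_subtype (K := C) : IsPGroup p (V.subgroupOf C)).exists_le_sylow
  let T := (T₀ : Subgroup C).map C.subtype
  have hTp : IsPGroup p T := T₀.isPGroup'.map _
  have hTC : T ≤ C := map_subtype_le _
  obtain ⟨U, hU⟩ := hTp.exists_le_sylow
  have hTi : ¬ p ∣ T.relIndex C := by
    rw [Subgroup.relIndex, show T.subgroupOf C = T₀ from comap_map_eq_self_of_injective C.subtype_injective _]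
    exact T₀.not_dvd_index
  refine ⟨U, T, fun v hv => ⟨⟨v, hVc hv⟩, hT₀ (mem_subgroupOf.2 hv), rfl⟩, hU, hTC, hTp, hTi, ?_⟩
  have h1 : T.relIndex (U : Subgroup G) * (U : Subgroup G).index = T.relIndex C * C.index := by
    rw [relIndex_mul_index hU, relIndex_mul_index hTC]
  obtain ⟨j, hj⟩ := U.isPGroup'.exists_card_eq (G := (U : Subgroup G))
  obtain ⟨i, -, hi⟩ := (Nat.dvd_prime_pow hp).1 (hj ▸ (T.subgroupOf (U : Subgroup G)).index_dvd_card)
  rw [show T.relIndex (U : Subgroup G) = p ^ i from hi] at h1 ⊢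
  rcases Nat.lt_or_ge i 2 with hlt | hge
  · calc p ^ i ∣ p ^ 1 := pow_dvd_pow p (by omega)
      _ = p := pow_one p
  · exfalso
    refine hx (Nat.Coprime.dvd_of_dvd_mul_left (m := T.relIndex C) ?_ ?_)
    · exact (hp.coprime_iff_not_dvd.2 hTi).pow_left 2
    · exact h1 ▸ (pow_dvd_pow p hge).trans (dvd_mul_right _ _)

end CfsgLib.ClassSizes.SquareFree
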