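import Cfsg.Agent.Lib.ClassSizes.SquareFree.Structure
import Cfsg.Agent.Lib.PGroups.Breadth

/-!
# The derived subgroup of a group with square-free class sizes
-/

set_option autoImplicit false

namespace CfsgLib.ClassSizes.SquareFree

open Subgroup Cfsg
open scoped commutatorElement

variable {G : Type*} [Group G] [Finite G]

/-- The derived subgroup when `O_{p'}(G) = 1`. -/
theorem card_commutator_le_of_core (h : CSF G) (p : ℕ) [Fact p.Prime] (hcore : pPrimeCore p G = ⊥) :
    Nat.card (commutator G) ≤ p := by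
  have hpr : p.Prime := Fact.out
  have hFp : IsPGroup p (fittingSubgroup G) := by
    refine (Core.isPGroup_pCore p G).to_le ?_
    rw [Core.fittingSubgroup_eq_finset_sup]
    refine Finset.sup_le fun r hr => ?_
    by_cases hrp : r = p
    · subst hrp; exact le_rfl
    · haveI : Fact r.Prime := ⟨Nat.prime_of_mem_primeFactors hr⟩
      refine le_trans ?_ (bot_le : (⊥ : Subgroup G) ≤ pCore p G)
      rw [← hcore]
      refine Core.le_pPrimeCore ?_
      obtain ⟨k, hk⟩ := (Core.isPGroup_pCore r G).exists_card_eq (G := pCore r G)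
      rw [hk]
      exact ((Nat.coprime_primes Fact.out hpr).2 hrp).pow_left k
  obtain ⟨P, hFP⟩ := hFp.exists_le_sylow
  haveI hPn : (P : Subgroup G).Normal :=
    Subgroup.Normal.of_commutator_le _ ((commutator_le_fitting h).trans hFP)
  -- a cyclic supplement of order prime to `p`
  haveI := h.isCyclic_quotient
  obtain ⟨q, hq⟩ := IsCyclic.exists_generator (α := G ⧸ fittingSubgroup G)
  obtain ⟨g, rfl⟩ := QuotientGroup.mk'_surjective (fittingSubgroup G) q
  obtain ⟨u, y, rfl, -, -, huy, hu, hy⟩ := exists_parts p g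
  have huP : u ∈ (P : Subgroup G) := by
    obtain ⟨U, hU⟩ := (isPGroup_zpowers hu).exists_le_sylow
    haveI := Sylow.unique_of_normal P hPn
    exact (Subsingleton.elim U P) ▸ hU (mem_zpowers u)
  set Y := zpowers y
  have hYn : Y ≤ normalizer ((P : Subgroup G) : Set G) := by
    rw [normalizer_eq_top]; exact le_top
  have hsup : (P : Subgroup G) ⊔ Y = ⊤ := by
    refine eq_top_iff.2 fun x _ => ?_
    obtain ⟨i, hi⟩ := mem_zpowers_iff.1 (hq (QuotientGroup.mk' (fittingSubgroup G) x))
    rw [← map_zpow] at hi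
    have h1 : ((u * y) ^ i)⁻¹ * x ∈ fittingSubgroup G := QuotientGroup.eq.1 hi
    have h2 : (u * y) ^ i ∈ (P : Subgroup G) ⊔ Y :=
      zpow_mem (mul_mem (mem_sup_left huP) (mem_sup_right (mem_zpowers y))) i
    simpa using mul_mem h2 (mem_sup_left (hFP h1) : ((u * y) ^ i)⁻¹ * x ∈ (P : Subgroup G) ⊔ Y)
  have hdec : ∀ x : G, ∃ v ∈ (P : Subgroup G), ∃ b ∈ Y, x = v * b := fun x =>
    (Core.mem_sup_iff_mul' hYn).1 (by rw [sup_comm, hsup]; exact mem_top x)
  have hbound : ∀ x : G, (centralizer ({x} : Set G)).relIndex (P : Subgroup G) ≤ p := fun x =>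
    relIndex_centralizer_le _ P.isPGroup' (h.not_sq_dvd hpr x)
  have hPc : Nat.card (commutator (P : Subgroup G)) ≤ p := by
    have := PGroups.Breadth.card_commutator_le P.isPGroup' 1 (fun x => by
      rw [pow_one]; exact (cls_subgroup x).trans_le (hbound x.1))
    simpa using this
  set T := (P : Subgroup G) ⊓ centralizer ({y} : Set G)
  have hyT : ∀ t ∈ T, Commute y t := fun t ht => (mem_centralizer_singleton_iff.1 ht.2).symm
  by_cases hTP : (P : Subgroup G) ≤ centralizer ({y} : Set G)
  · -- `y` is central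
    have hYc : ∀ v ∈ (P : Subgroup G), ∀ b ∈ Y, Commute v b := by
      intro v hv b hb
      obtain ⟨i, rfl⟩ := mem_zpowers_iff.1 hb
      exact Commute.zpow_right (mem_centralizer_singleton_iff.1 (hTP hv)) i
    have hle : commutator G ≤ (commutator (P : Subgroup G)).map (P : Subgroup G).subtype := by
      rw [_root_.commutator_def, commutator_le]
      intro a _ b _
      obtain ⟨v, hv, c, hc, rfl⟩ := hdec a
      obtain ⟨w, hw, d, hd, rfl⟩ := hdec b
      refine ⟨⁅(⟨v, hv⟩ : (P : Subgroup G)), ⟨w, hw⟩⁆,
        commutator_mem_commutator (mem_top _) (mem_top _), ?_⟩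
      have hcd : c * d = d * c := by
        obtain ⟨i, rfl⟩ := mem_zpowers_iff.1 hc
        obtain ⟨j, rfl⟩ := mem_zpowers_iff.1 hd
        exact (Commute.zpow_zpow_self y i j).eq
      have h1 := (hYc w hw c hc).eq
      have h2 := (hYc v hv d hd).eq
      rw [Subgroup.coe_subtype]
      change v * w * v⁻¹ * w⁻¹ = ⁅v * c, w * d⁆
      rw [commutatorElement_def]
      symm
      calc v * c * (w * d) * (v * c)⁻¹ * (w * d)⁻¹
          = v * (c * w) * (d * c⁻¹) * v⁻¹ * (d⁻¹ * w⁻¹) := by group
        _ = v * (w * c) * (c⁻¹ * d) * v⁻¹ * (d⁻¹ * w⁻¹) := by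
            rw [h1, show d * c⁻¹ = c⁻¹ * d from
              ((show Commute d c from hcd.symm).inv_right).eq]
        _ = v * w * (d * v⁻¹) * (d⁻¹ * w⁻¹) := by group
        _ = v * w * (v⁻¹ * d) * (d⁻¹ * w⁻¹) := by
            rw [show d * v⁻¹ = v⁻¹ * d from ((show Commute d v from h2.symm).inv_right).eq]
        _ = v * w * v⁻¹ * w⁻¹ := by group
    refine (Nat.le_of_dvd Nat.card_pos (card_dvd_of_le hle)).trans ?_
    rwa [Nat.card_congr (equivMapOfInjective _ _ (P : Subgroup G).subtype_injective).toEquiv.symm]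
  -- `y` moves `P`
  have hTi : T.relIndex (P : Subgroup G) = p := by
    have h1 : T.relIndex (P : Subgroup G) ≤ p := by
      have h2 : T.relIndex (P : Subgroup G) = (centralizer ({y} : Set G)).relIndex (P : Subgroup G) := by
        rw [show T = (P : Subgroup G) ⊓ centralizer ({y} : Set G) from rfl, inf_relIndex_left]
      rw [h2]; exact hbound y
    obtain ⟨k, hk⟩ := P.isPGroup'.exists_card_eq (G := (P : Subgroup G))
    obtain ⟨i, -, hi⟩ := (Nat.dvd_prime_pow hpr).1 (hk ▸ (T.subgroupOf (P : Subgroup G)).index_dvd_card)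
    rw [show T.relIndex (P : Subgroup G) = p ^ i from hi] at h1 ⊢
    rcases Nat.lt_trichotomy i 1 with h0 | h0 | h0
    · have h3 : T.relIndex (P : Subgroup G) = 1 := hi.trans (by rw [show i = 0 by omega, pow_zero])
      exact absurd ((relIndex_eq_one.1 h3).trans inf_le_right) hTP
    · rw [h0, pow_one]
    · exact absurd h1 (not_le.2 (lt_self_pow₀ hpr.one_lt h0))
  have hcop : (Nat.card Y).Coprime (Nat.card (P : Subgroup G)) := by
    obtain ⟨k, hk⟩ := P.isPGroup'.exists_card_eq (G := (P : Subgroup G))
    rw [hk, Nat.card_zpowers]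
    exact ((hpr.coprime_iff_not_dvd.2 hy).symm).pow_right k
  have hsolv : Group.IsSolvable Y ∨ Group.IsSolvable (P : Subgroup G) :=
    Or.inr (by haveI := P.isPGroup'.isNilpotent; infer_instance)
  set D := ⁅(P : Subgroup G), Y⁆
  have hDP : D ≤ (P : Subgroup G) := Core.commutator_le_of_normalizes hYn
  haveI hDn : D.Normal := by
    refine normalizer_eq_top_iff.1 (eq_top_iff.2 ?_)
    rw [← hsup]
    exact Core.le_normalizer_commutator_self Y (P : Subgroup G)
  have hTY : ∀ t ∈ T, ∀ b ∈ Y, Commute t b := by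
    intro t ht b hb
    obtain ⟨i, rfl⟩ := mem_zpowers_iff.1 hb
    exact ((hyT t ht).symm).zpow_right i
  -- `T` is normal in `P`, so `D` centralizes it
  have hDT : ⁅D, T⁆ = ⊥ := by
    have hbot : ⁅T, Y⁆ = ⊥ := by
      refine eq_bot_iff.2 ((commutator_le).2 fun t ht b hb => ?_)
      rw [mem_bot, commutatorElement_eq_one_iff_mul_comm]
      exact (hTY t ht b hb).eq
    refine commutator_commutator_eq_bot_of_rotate ?_ ?_
    · rw [commutator_comm Y T, hbot]; simp
    · refine le_bot_iff.1 ((commutator_mono ?_ le_rfl).trans hbot.le)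
      -- a subgroup of index `p` of a `p`-group is normal
      have hT' : (T.subgroupOf (P : Subgroup G)).index = p := hTi
      have hco : IsCoatom (T.subgroupOf (P : Subgroup G)) := by
        refine ⟨fun ht => hpr.ne_one (hT'.symm.trans (index_eq_one.2 ht)), fun M hM => ?_⟩
        rcases (Nat.dvd_prime hpr).1 ((index_dvd_of_le hM.le).trans hT'.dvd) with h3 | h3
        · exact index_eq_one.1 h3
        · have := relIndex_mul_index hM.le
          rw [hT', h3] at this
          exact absurd (relIndex_eq_one.1 (Nat.eq_of_mul_eq_mul_right hpr.pos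
            (this.trans (one_mul p).symm))) (not_le_of_gt hM)
      haveI := PGroups.normal_of_isCoatom' P.isPGroup' hco
      rw [commutator_le]
      intro t ht v hv
      have h1 : (⟨t, ht.1⟩ : (P : Subgroup G)) * ⟨v, hv⟩ * (⟨t, ht.1⟩ : (P : Subgroup G))⁻¹ * ⟨v, hv⟩⁻¹
          ∈ T.subgroupOf (P : Subgroup G) := by
        rw [mul_assoc, mul_assoc]
        refine mul_mem (show (⟨t, ht.1⟩ : (P : Subgroup G)) ∈ _ from ht) ?_
        rw [← mul_assoc]
        exact Subgroup.Normal.conj_mem ‹_› _ (inv_mem (show (⟨t, ht.1⟩ : (P : Subgroup G)) ∈ _ from ht)) _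
      exact h1
  have hDTc : ∀ a ∈ D, ∀ t ∈ T, Commute a t := fun a ha t ht =>
    commutatorElement_eq_one_iff_mul_comm.1 (mem_bot.1 (hDT ▸ commutator_mem_commutator ha ht))
  have hsupT : D ⊔ T = (P : Subgroup G) := by
    have := Core.commutator_sup_centralizer hYn hcop hsolv
    rwa [show (Y : Set G) = ((closure {y} : Subgroup G) : Set G) by rw [← zpowers_eq_closure],
      centralizer_closure] at this
  have hDab : IsMulCommutative D := by
    refine ⟨⟨fun a b => ?_⟩⟩
    have hidx : (T.subgroupOf D).index ≤ p :=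
      (relIndex_le_of_le_right hDP Subgroup.index_ne_zero_of_finite).trans hTi.le
    have hDp : IsPGroup p D := P.isPGroup'.to_le hDP
    have hcen : T.subgroupOf D ≤ center D := fun t ht =>
      mem_center_iff.2 fun d => Subtype.ext (hDTc d.1 d.2 t.1 ht).eq
    haveI : (T.subgroupOf D).Normal := ⟨fun t ht d => by
      rwa [mem_center_iff.1 (hcen ht) d, mul_inv_cancel_right]⟩
    haveI : IsCyclic (D ⧸ T.subgroupOf D) := by
      obtain ⟨k, hk⟩ := (hDp.to_quotient (T.subgroupOf D)).exists_card_eq (G := D ⧸ T.subgroupOf D)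
      rw [← Subgroup.index_eq_card] at hk
      rw [hk] at hidx
      rcases Nat.lt_trichotomy k 1 with h0 | h0 | h0
      · haveI : Subsingleton (D ⧸ T.subgroupOf D) := (Nat.card_eq_one_iff_unique.1 (by
          rw [← Subgroup.index_eq_card, hk, show k = 0 by omega, pow_zero])).1
        infer_instance
      · exact isCyclic_of_prime_card (p := p) (by rw [← Subgroup.index_eq_card, hk, h0, pow_one])
      · exact absurd hidx (not_le.2 (lt_self_pow₀ hpr.one_lt h0))
    haveI := PGroups.isMulCommutative_of_cyclic_quotient hcen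
    exact mul_comm' a b
  have hDint : D ⊓ T = ⊥ := by
    have h1 := Core.abelian_inf_eq_bot (A := Y) (V := D)
      (by rw [normalizer_eq_top]; exact le_top) (hcop.coprime_dvd_right (card_dvd_of_le hDP))
    rw [Core.commutator_commutator_eq hYn hcop hsolv] at h1
    refine le_bot_iff.1 (le_trans ?_ h1.le)
    rintro a ⟨ha, hat⟩
    exact ⟨⟨ha, mem_centralizer_iff.2 fun b hb => (hTY a hat b hb).eq.symm⟩, ha⟩
  have hDcard : Nat.card D ≤ p := by
    rw [← relIndex_bot_left (H := D), ← hDint, inf_relIndex_left]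
    exact (relIndex_le_of_le_right hDP Subgroup.index_ne_zero_of_finite).trans hTi.le
  -- `T` is abelian
  have hTab : ∀ a ∈ T, ∀ b ∈ T, Commute a b := by
    intro t ht b hb
    set x := y * t
    have hCle : centralizer ({x} : Set G) ≤ centralizer ({y} : Set G) ⊓ centralizer ({t} : Set G) := by
      intro c hc
      rw [mem_centralizer_singleton_iff] at hc
      have hco : (orderOf y).Coprime (orderOf t) := by
        obtain ⟨k, hk⟩ := exists_orderOf_eq_of_isPGroup P.isPGroup' ht.1
        rw [hk]
        exact ((hpr.coprime_iff_not_dvd.2 hy).symm).pow_right k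
      have hct : Commute c t := by
        obtain ⟨m, hm⟩ := exists_pow_eq_self_of_coprime hco
        rw [← hm]
        refine Commute.pow_right ?_ m
        have := (show Commute c x from hc).pow_right (orderOf y)
        rwa [(hyT t ht).mul_pow, pow_orderOf_eq_one, one_mul] at this
      have hcy : Commute c y := by
        have := (show Commute c x from hc).mul_right hct.inv_right
        rwa [mul_inv_cancel_right] at this
      exact ⟨mem_centralizer_singleton_iff.2 hcy.eq, mem_centralizer_singleton_iff.2 hct.eq⟩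
    have hA : (P : Subgroup G) ⊓ centralizer ({x} : Set G) ≤ T := fun a ha => ⟨ha.1, (hCle ha.2).1⟩
    have h1 := relIndex_mul_relIndex _ _ _ hA (inf_le_left : T ≤ (P : Subgroup G))
    rw [hTi, inf_relIndex_left] at h1
    have h2 : ((P : Subgroup G) ⊓ centralizer ({x} : Set G)).relIndex T * p ≤ 1 * p := by
      rw [h1, one_mul]; exact hbound x
    have h3 : ((P : Subgroup G) ⊓ centralizer ({x} : Set G)).relIndex T = 1 :=
      le_antisymm (Nat.le_of_mul_le_mul_right h2 hpr.pos)
        (Nat.pos_of_ne_zero Subgroup.index_ne_zero_of_finite)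
    exact (mem_centralizer_singleton_iff.1 (hCle (relIndex_eq_one.1 h3 hb).2).2).symm
  -- `G / D` is abelian
  have hle : commutator G ≤ D := by
    have hP' : (P : Subgroup G).map (QuotientGroup.mk' D) = T.map (QuotientGroup.mk' D) := by
      rw [← hsupT, Subgroup.map_sup, (Subgroup.map_eq_bot_iff D).2 (QuotientGroup.ker_mk' D).ge, bot_sup_eq]
    have hcq : ∀ v ∈ (P : Subgroup G), ∀ w : G, w ∈ T ∨ w ∈ Y →
        Commute (QuotientGroup.mk' D v) (QuotientGroup.mk' D w) := by
      intro v hv w hw
      obtain ⟨t, ht, he⟩ : QuotientGroup.mk' D v ∈ T.map (QuotientGroup.mk' D) := hP' ▸ ⟨v, hv, rfl⟩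
      rw [← he]
      rcases hw with hw | hw
      · exact (hTab t ht w hw).map _
      · exact (hTY t ht w hw).map _
    rw [_root_.commutator_def, commutator_le]
    intro a _ b _
    obtain ⟨v, hv, c, hc, rfl⟩ := hdec a
    obtain ⟨w, hw, d, hd, rfl⟩ := hdec b
    obtain ⟨t, ht, he⟩ : QuotientGroup.mk' D w ∈ T.map (QuotientGroup.mk' D) := hP' ▸ ⟨w, hw, rfl⟩
    refine (QuotientGroup.eq_one_iff _).1 (show QuotientGroup.mk' D _ = 1 from ?_)
    rw [map_commutatorElement, commutatorElement_eq_one_iff_mul_comm]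
    have hcd : Commute c d := by
      obtain ⟨i, rfl⟩ := mem_zpowers_iff.1 hc
      obtain ⟨j, rfl⟩ := mem_zpowers_iff.1 hd
      exact Commute.zpow_zpow_self y i j
    have c1 : Commute (QuotientGroup.mk' D v) (QuotientGroup.mk' D w) := he ▸ hcq v hv t (Or.inl ht)
    have c2 := hcq v hv d (Or.inr hd)
    have c3 := (hcq w hw c (Or.inr hc)).symm
    rw [map_mul, map_mul]
    exact (c1.mul_right c2).mul_left (c3.mul_right (hcd.map _))
  exact (Nat.le_of_dvd Nat.card_pos (card_dvd_of_le hle)).trans hDcard

theorem CSF.squarefree_commutator (h : CSF G) : Squarefree (Nat.card (commutator G)) := by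
  refine squarefree_of_forall fun p hp hd => ?_
  haveI := Fact.mk hp
  set f := QuotientGroup.mk' (pPrimeCore p G)
  have hX := card_commutator_le_of_core (h.quotient (pPrimeCore p G)) p
    (Core.pPrimeCore_quotient_pPrimeCore p G)
  have he : Nat.card (commutator G) =
      Nat.card (pPrimeCore p G ⊓ commutator G : Subgroup G) * Nat.card (commutator (G ⧸ pPrimeCore p G)) := by
    rw [← card_mul_relIndex_eq (inf_le_right : pPrimeCore p G ⊓ commutator G ≤ commutator G),
      inf_relIndex_right]
    congr 1
    conv_lhs => rw [← QuotientGroup.ker_mk' (pPrimeCore p G), relIndex_ker]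
    rw [_root_.commutator_def, _root_.commutator_def, Subgroup.map_commutator, ← MonoidHom.range_eq_map,
      MonoidHom.range_eq_top.2 (QuotientGroup.mk'_surjective _)]
  rw [he] at hd
  have hcop : (p ^ 2).Coprime (Nat.card (pPrimeCore p G ⊓ commutator G : Subgroup G)) :=
    (((Core.coprime_card_pPrimeCore p G).coprime_dvd_left (card_dvd_of_le inf_le_left)).symm).pow_left 2
  have h2 := Nat.le_of_dvd Nat.card_pos (hcop.dvd_of_dvd_mul_left hd)
  exact absurd (h2.trans hX) (not_le.2 (lt_self_pow₀ hp.one_lt one_lt_two))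

theorem CSF.isCyclic_commutator (h : CSF G) : IsCyclic (commutator G) := by
  haveI := SolvStruct.commutator_isNilpotent h.isSupersolvable
  haveI : IsZGroup (commutator G) := IsZGroup.of_squarefree h.squarefree_commutator
  infer_instance

/-- A cyclic normal subgroup of square-free order of a nilpotent group is central. -/
theorem le_center_of_squarefree {H : Type*} [Group H] [Finite H] [Group.IsNilpotent H] (N : Subgroup H)
    [hN : N.Normal] [IsCyclic N] (hsq : Squarefree (Nat.card N)) : N ≤ center H := by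
  have hd : Nat.card N ∣ Nat.card (N ⊓ center H : Subgroup H) := by
    refine (Nat.prod_primeFactors_of_squarefree hsq).symm.dvd.trans (Finset.prod_primes_dvd _
      (fun r hr => (Nat.prime_of_mem_primeFactors hr).prime) fun r hr => ?_)
    haveI : Fact r.Prime := ⟨Nat.prime_of_mem_primeFactors hr⟩
    obtain ⟨x, hx⟩ := exists_prime_orderOf_dvd_card' r (Nat.dvd_of_mem_primeFactors hr)
    haveI : (zpowers (x : H)).Normal :=
      SolvStruct.normal_of_le_isCyclic hN (zpowers_le.2 x.2)
    have hne : zpowers (x : H) ≠ ⊥ := by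
      rw [Ne, zpowers_eq_bot]
      intro h1
      rw [← Subgroup.orderOf_coe, h1, orderOf_one] at hx
      exact (Fact.out : r.Prime).ne_one hx.symm
    have h2 := Core.inf_center_ne_bot_of_isNilpotent (zpowers (x : H)) hne
    obtain ⟨z, ⟨hz, hzc⟩, hz1⟩ := (zpowers (x : H) ⊓ center H).bot_or_exists_ne_one.resolve_left h2
    have ho : orderOf z = r := by
      have hd : orderOf z ∣ r := by
        rw [← hx, ← Subgroup.orderOf_coe, ← Nat.card_zpowers (x : H)]
        exact Subgroup.orderOf_mk z hz ▸ orderOf_dvd_natCard _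
      exact ((Nat.dvd_prime (Fact.out : r.Prime)).1 hd).resolve_left
        (fun h => hz1 (orderOf_eq_one_iff.1 h))
    rw [← ho, ← Subgroup.orderOf_mk z (show z ∈ N ⊓ center H from ⟨zpowers_le.2 x.2 hz, hzc⟩)]
    exact orderOf_dvd_natCard _
  have := Subgroup.eq_of_le_of_card_ge (inf_le_left : N ⊓ center H ≤ N) (Nat.le_of_dvd Nat.card_pos hd)
  exact this ▸ inf_le_right

theorem CSF.fitting_class_two (h : CSF G) :
    Subgroup.upperCentralSeries (fittingSubgroup G) 2 = ⊤ := by
  haveI := Core.isNilpotent_fittingSubgroup G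
  haveI := h.isCyclic_commutator
  set F := fittingSubgroup G
  have hle : (commutator F).map F.subtype ≤ commutator G := by
    rw [_root_.commutator_def, _root_.commutator_def, Subgroup.map_commutator]
    exact commutator_mono le_top le_top
  haveI : IsCyclic (commutator F) :=
    haveI := SolvStruct.isCyclic_subgroup_of_le hle
    isCyclic_of_injective (equivMapOfInjective (commutator F) F.subtype F.subtype_injective).toMonoidHom
      (equivMapOfInjective (commutator F) F.subtype F.subtype_injective).injective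
  have hc : commutator F ≤ center F := by
    refine le_center_of_squarefree _ ?_
    rw [Nat.card_congr (equivMapOfInjective (commutator F) F.subtype F.subtype_injective).toEquiv]
    exact h.squarefree_commutator.squarefree_of_dvd (card_dvd_of_le hle)
  refine eq_top_iff.2 fun x _ => ?_
  rw [_root_.mem_upperCentralSeries_succ_iff]
  intro y
  rw [_root_.upperCentralSeries_one]
  exact hc (commutator_mem_commutator (mem_top x) (mem_top y))

theorem CSF.metabelian (h : CSF G) : commutator (commutator G) = ⊥ := by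
  haveI := h.isCyclic_commutator
  obtain ⟨g, hg⟩ := IsCyclic.exists_generator (α := commutator G)
  refine eq_bot_iff.2 ((commutator_le).2 fun a _ b _ => ?_)
  rw [mem_bot, commutatorElement_eq_one_iff_mul_comm]
  obtain ⟨i, rfl⟩ := mem_zpowers_iff.1 (hg a)
  obtain ⟨j, rfl⟩ := mem_zpowers_iff.1 (hg b)
  exact (Commute.zpow_zpow_self g i j).eq

end CfsgLib.ClassSizes.SquareFree
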