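import Cfsg.Agent.Lib.ClassSizes.SquareFree.Basic
import Cfsg.Agent.Lib.PGroups.Basic
import Cfsg.Agent.Lib.HallGen.Counting

/-!
# No class size divisible by `p ^ 2` for the smallest prime `p` gives `p`-nilpotence

The abelian Sylow case is a counting argument: every element of order prime to `p` centralizes a
subgroup of index `p` of some Sylow subgroup, and these centralizers and the centralizers of the
nontrivial `p`-elements are `p`-nilpotent by induction.
-/

set_option autoImplicit false

namespace CfsgLib.ClassSizes.SquareFree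

open Subgroup
open scoped Pointwise

variable {G : Type*} [Group G] [Finite G] {p : ℕ} [Fact p.Prime]

/-- An abelian finite `p`-group has fewer maximal subgroups than elements. -/
theorem card_index_lt {A : Type*} [CommGroup A] [Finite A] (q : ℕ) [Fact q.Prime] :
    Nat.card {H : Subgroup A // H.index = q} < Nat.card A := by
  classical
  have hex : ∀ H : {H : Subgroup A // H.index = q}, ∃ φ : A →* ℂˣ, φ.ker = H.1 ∧ φ ≠ 1 := by
    rintro ⟨H, hH⟩
    have hcard : Nat.card (A ⧸ H) = q := by rw [← Subgroup.index_eq_card, hH]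
    haveI : Nontrivial (A ⧸ H) := Finite.one_lt_card_iff_nontrivial.1
      (hcard ▸ (Fact.out : q.Prime).one_lt)
    obtain ⟨a, ha⟩ := exists_ne (1 : A ⧸ H)
    obtain ⟨φ, hφ⟩ := CommGroup.exists_apply_ne_one_of_hasEnoughRootsOfUnity (A ⧸ H) ℂ ha
    haveI := isSimpleGroup_of_prime_card hcard
    have hker : φ.ker = ⊥ := ((Subgroup.Normal.eq_bot_or_eq_top (inferInstance : φ.ker.Normal))).resolve_right
      fun h => hφ (MonoidHom.mem_ker.1 (h ▸ Subgroup.mem_top a))
    refine ⟨φ.comp (QuotientGroup.mk' H), ?_, fun h => ?_⟩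
    · rw [← MonoidHom.comap_ker, hker, MonoidHom.comap_bot, QuotientGroup.ker_mk']
    · obtain ⟨b, rfl⟩ := QuotientGroup.mk'_surjective H a
      exact hφ (DFunLike.congr_fun h b)
  choose φ hφ hne using hex
  haveI : Finite (A →* ℂˣ) := Nat.finite_of_card_ne_zero (by
    rw [CommGroup.card_monoidHom_of_hasEnoughRootsOfUnity]; exact Nat.card_pos.ne')
  rw [← CommGroup.card_monoidHom_of_hasEnoughRootsOfUnity A ℂ]
  refine (Nat.card_le_card_of_injective (fun H => (⟨φ H, hne H⟩ : {ψ : A →* ℂˣ // ψ ≠ 1}))
    fun H K h => ?_).trans_lt ?_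
  · have : φ H = φ K := congrArg Subtype.val h
    exact Subtype.ext ((hφ H).symm.trans ((congrArg MonoidHom.ker this).trans (hφ K)))
  · exact Finite.card_subtype_lt (x := (1 : A →* ℂˣ)) (by simp)

theorem card_maximal_lt {U : Subgroup G} (hU : IsMulCommutative U) :
    Nat.card {H : Subgroup G // H ≤ U ∧ H.relIndex U = p} < Nat.card U := by
  letI : CommGroup U := { (inferInstance : Group U) with mul_comm := hU.is_comm.comm }
  refine lt_of_le_of_lt (Nat.card_le_card_of_injective
    (fun H => (⟨H.1.subgroupOf U, H.2.2⟩ : {K : Subgroup U // K.index = p})) fun H K h => ?_)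
    (card_index_lt p)
  have h' : H.1.subgroupOf U = K.1.subgroupOf U := congrArg Subtype.val h
  exact Subtype.ext (by
    rw [← map_subgroupOf_eq_of_le H.2.1, ← map_subgroupOf_eq_of_le K.2.1, h'])

/-- A Sylow subgroup inside a `p`-nilpotent subgroup is centralized by its normalizer there. -/
theorem mem_centralizer_of_pNil {K : Subgroup G} (hK : PNil p K) (Q : Sylow p G)
    (hQ : IsMulCommutative (Q : Subgroup G)) (hQK : (Q : Subgroup G) ≤ K) {k : G} (hk : k ∈ K)
    (hn : k ∈ normalizer ((Q : Subgroup G) : Set G)) :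
    k ∈ centralizer ((Q : Subgroup G) : Set G) := by
  obtain ⟨u, y, rfl, hu, hy, -, hup, hyp⟩ := exists_parts p k
  have hy' : y ∈ normalizer ((Q : Subgroup G) : Set G) := zpowers_le.2 hn hy
  have hu' : u ∈ normalizer ((Q : Subgroup G) : Set G) := zpowers_le.2 hn hu
  have huQ : u ∈ (Q : Subgroup G) := by
    have hle : zpowers u ≤ normalizer ((Q : Subgroup G) : Set G) := zpowers_le.2 hu'
    have := Q.3 ((isPGroup_zpowers hup).to_sup_of_normal_right' Q.isPGroup' hle) le_sup_right
    exact this ▸ mem_sup_left (mem_zpowers u)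
  refine mul_mem (mem_centralizer_iff.2 fun q hq =>
    congrArg Subtype.val (hQ.is_comm.comm ⟨q, hq⟩ ⟨u, huQ⟩)) (mem_centralizer_iff.2 fun q hq => ?_)
  have hcQ : y * q * y⁻¹ * q⁻¹ ∈ (Q : Subgroup G) :=
    mul_mem ((mem_normalizer_iff.1 hy' q).1 hq) (inv_mem hq)
  have hyK : y ∈ K := zpowers_le.2 hk hy
  have h1 : y * q * y⁻¹ * q⁻¹ = 1 := by
    refine eq_one_of_orders (exists_orderOf_eq_of_isPGroup Q.isPGroup' hcQ) ?_
    have := hK ⟨y, hyK⟩ ⟨q * y⁻¹ * q⁻¹, K.mul_mem (K.mul_mem (hQK hq) (K.inv_mem hyK))
      (K.inv_mem (hQK hq))⟩ (by rwa [Subgroup.orderOf_mk]) (by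
      rw [Subgroup.orderOf_mk, show q * y⁻¹ * q⁻¹ = MulAut.conj q y⁻¹ by simp,
        MulEquiv.orderOf_eq, orderOf_inv]
      exact hyp)
    rw [← Subgroup.orderOf_coe] at this
    simpa [mul_assoc] using this
  rw [mul_inv_eq_one, mul_inv_eq_iff_eq_mul] at h1
  exact h1.symm

/-- A `p`-element centralized by a Sylow subgroup lies in it. -/
theorem mem_sylow_of_le_centralizer {u : G} (hu : ∃ k, orderOf u = p ^ k) (V : Sylow p G)
    (hV : (V : Subgroup G) ≤ centralizer ({u} : Set G)) : u ∈ (V : Subgroup G) := by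
  have hle : zpowers u ≤ normalizer ((V : Subgroup G) : Set G) :=
    zpowers_le.2 (centralizer_le_normalizer _ (mem_centralizer_iff.2 fun v hv =>
      mem_centralizer_singleton_iff.1 (hV hv)))
  have := V.3 ((isPGroup_zpowers hu).to_sup_of_normal_right' V.isPGroup' hle) le_sup_right
  exact this ▸ mem_sup_left (mem_zpowers u)

theorem card_mul_relIndex_eq {H K : Subgroup G} (h : H ≤ K) :
    Nat.card H * H.relIndex K = Nat.card K := by
  rw [← Nat.card_congr (subgroupOfEquivOfLe h).toEquiv]
  exact (H.subgroupOf K).card_mul_index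

theorem card_centralizer_sylow (P Q : Sylow p G) :
    Nat.card (centralizer ((Q : Subgroup G) : Set G)) =
      Nat.card (centralizer ((P : Subgroup G) : Set G)) := by
  have key : ∀ A B : Sylow p G, Nat.card (centralizer ((A : Subgroup G) : Set G)) ≤
      Nat.card (centralizer ((B : Subgroup G) : Set G)) := by
    intro A B
    obtain ⟨g, hg⟩ := MulAction.exists_smul_eq G A B
    refine Nat.card_le_card_of_injective
      (fun c => (⟨g * c.1 * g⁻¹, mem_centralizer_iff.2 ?_⟩ : centralizer ((B : Subgroup G) : Set G)))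
      fun a b h => Subtype.ext (by simpa using congrArg Subtype.val h)
    intro b hb
    rw [← hg, Sylow.coe_subgroup_smul] at hb
    have hb' : g⁻¹ * b * g ∈ (A : Subgroup G) := by
      have := Subgroup.mem_pointwise_smul_iff_inv_smul_mem.1 hb
      simpa [MulAut.smul_def] using this
    have := mem_centralizer_iff.1 c.2 _ hb'
    calc b * (g * c.1 * g⁻¹) = g * ((g⁻¹ * b * g) * c.1) * g⁻¹ := by group
      _ = g * (c.1 * (g⁻¹ * b * g)) * g⁻¹ := by rw [this]
      _ = g * c.1 * g⁻¹ * b := by group
  exact le_antisymm (key Q P) (key P Q)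

open scoped Classical in
/-- The abelian Sylow case. -/
theorem pNil_abelian_aux : ∀ (n : ℕ) (G : Type*) [Group G] [Finite G], Nat.card G = n → Small p G →
    (∀ U : Sylow p G, IsMulCommutative (U : Subgroup G)) →
    (∀ y : G, ¬ p ∣ orderOf y → ¬ p ^ 2 ∣ cls y) → PNil p G := by
  intro n
  induction n using Nat.strong_induction_on with
  | _ n ih =>
  intro G _ _ hn hsmall hab hy
  have hp : p.Prime := Fact.out
  haveI := Fintype.ofFinite G
  haveI : Fintype (Sylow p G) := Fintype.ofFinite _
  haveI : Fintype (Subgroup G) := Fintype.ofFinite _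
  obtain ⟨P⟩ := (Sylow.nonempty : Nonempty (Sylow p G))
  -- a central nontrivial `p`-element
  by_cases hc : ∃ z ∈ (P : Subgroup G), z ∈ center G ∧ z ≠ 1
  · obtain ⟨z, hzP, hzc, hz1⟩ := hc
    haveI : (zpowers z).Normal := ⟨fun x hx g => by
      rwa [mem_center_iff.1 ((zpowers_le.2 hzc) hx) g, mul_inv_cancel_right]⟩
    refine pNil_of_central (Z := zpowers z) (zpowers_le.2 hzc)
      (P.isPGroup'.to_le (zpowers_le.2 hzP)) ?_
    refine ih _ ?_ (G ⧸ zpowers z) rfl (hsmall.quotient _) ?_ ?_
    · rw [← hn, (zpowers z).card_eq_card_quotient_mul_card_subgroup, Nat.card_zpowers]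
      exact lt_mul_of_one_lt_right Nat.card_pos (lt_of_le_of_ne (orderOf_pos z)
        (fun h => hz1 (orderOf_eq_one_iff.1 h.symm)))
    · intro U
      obtain ⟨U', rfl⟩ := Sylow.mapSurjective_surjective (QuotientGroup.mk'_surjective (zpowers z)) p U
      refine ⟨⟨fun a b => ?_⟩⟩
      obtain ⟨a', ha', hae⟩ : ∃ a' ∈ (U' : Subgroup G), (QuotientGroup.mk' _) a' = a.1 := by
        exact a.2
      obtain ⟨b', hb', hbe⟩ : ∃ b' ∈ (U' : Subgroup G), (QuotientGroup.mk' _) b' = b.1 := by
        exact b.2
      refine Subtype.ext ?_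
      simp only [Subgroup.coe_mul, ← hae, ← hbe, ← map_mul]
      exact congrArg _ (congrArg Subtype.val ((hab U').is_comm.comm ⟨a', ha'⟩ ⟨b', hb'⟩))
    · intro q hq hd
      obtain ⟨g, rfl⟩ := QuotientGroup.mk'_surjective (zpowers z) q
      obtain ⟨y, hy1, hy2⟩ := exists_lift (QuotientGroup.mk' (zpowers z)) g hq
      exact hy y hy1 (hd.trans (hy2 ▸ cls_map_dvd (QuotientGroup.mk'_surjective _) y))
  push_neg at hc
  apply pNil_of_normalizer_le P
  rcases eq_or_ne (P : Subgroup G) ⊥ with hP0 | hP0
  · intro x _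
    rw [mem_centralizer_iff]
    intro z hz
    rw [hP0, SetLike.mem_coe, mem_bot] at hz
    simp [hz]
  obtain ⟨e, he⟩ := P.isPGroup'.exists_card_eq (G := (P : Subgroup G))
  have hpG : p ∣ Nat.card G := by
    rcases Nat.eq_zero_or_pos e with rfl | he0
    · exact absurd (Subgroup.card_eq_one.1 (by simpa using he)) hP0
    · exact (dvd_pow_self p he0.ne').trans (he ▸ (P : Subgroup G).card_subgroup_dvd_card)
  by_cases he1 : e = 1
  · refine IsCyclic.normalizer_le_centralizer (le_antisymm (Nat.minFac_le_of_dvd hp.two_le hpG)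
      (hsmall _ (Nat.minFac_prime (fun h => ?_)) (Nat.minFac_dvd _))) ?_
    · rw [h] at hpG; exact hp.not_dvd_one hpG
    · exact isCyclic_of_prime_card (by rw [he, he1, pow_one])
  have hPU : ∀ U : Sylow p G, Nat.card (U : Subgroup G) = p ^ e := fun U => by
    rw [← he, Sylow.card_eq_multiplicity, Sylow.card_eq_multiplicity]
  -- centralizers of nontrivial `p`-elements are `p`-nilpotent
  have hCu : ∀ u : G, u ≠ 1 → ∀ U : Sylow p G, u ∈ (U : Subgroup G) →
      PNil p (centralizer ({u} : Set G)) := by
    intro u hu U huU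
    refine ih _ ?_ _ rfl (hsmall.subgroup _) ?_ ?_
    · rw [← hn]
      refine lt_of_le_of_ne (Nat.le_of_dvd Nat.card_pos (Subgroup.card_subgroup_dvd_card _)) fun h => ?_
      have htop : centralizer ({u} : Set G) = ⊤ := Subgroup.eq_top_of_card_eq _ h
      have huc : u ∈ center G := mem_center_iff.2 fun g =>
        mem_centralizer_singleton_iff.1 (htop ▸ mem_top g)
      obtain ⟨g, hg⟩ := MulAction.exists_smul_eq G U P
      refine hu (hc u ?_ huc)
      rw [← hg, Sylow.coe_subgroup_smul, Subgroup.mem_pointwise_smul_iff_inv_smul_mem]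
      simpa [MulAut.smul_def, mem_center_iff.1 huc g⁻¹] using huU
    · intro W
      obtain ⟨U', hU'⟩ := (W.isPGroup'.map (centralizer ({u} : Set G)).subtype).exists_le_sylow
      exact ⟨⟨fun a b => Subtype.ext (Subtype.ext (show a.1.1 * b.1.1 = b.1.1 * a.1.1 from
        congrArg Subtype.val ((hab U').is_comm.comm
          ⟨a.1.1, hU' ⟨a.1, a.2, rfl⟩⟩ ⟨b.1.1, hU' ⟨b.1, b.2, rfl⟩⟩)))⟩⟩
    · intro y hy'
      rw [← Subgroup.orderOf_coe] at hy'
      have hup : IsPGroup p (zpowers u) := U.isPGroup'.to_le (zpowers_le.2 huU)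
      obtain ⟨U', T, hVT, hTU, hTy, hTp, hTi, hTd⟩ := exists_sylow_centralizer (hy _ hy') hup
        (zpowers_le.2 (mem_centralizer_singleton_iff.2 (mem_centralizer_singleton_iff.1 y.2).symm))
      have hU'C : (U' : Subgroup G) ≤ centralizer ({u} : Set G) := fun a ha =>
        mem_centralizer_singleton_iff.2 (congrArg Subtype.val
          ((hab U').is_comm.comm ⟨a, ha⟩ ⟨u, hTU (hVT (mem_zpowers u))⟩))
      intro hd
      rw [cls_subgroup] at hd
      have h1 : (centralizer ({(y : G)} : Set G)).relIndex (centralizer ({u} : Set G)) ∣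
          T.relIndex (centralizer ({u} : Set G)) := relIndex_dvd_of_le_left _ hTy
      rw [← relIndex_mul_relIndex _ _ _ hTU hU'C] at h1
      have h2 : p ^ 2 ∣ T.relIndex (U' : Subgroup G) := by
        refine Nat.Coprime.dvd_of_dvd_mul_right ?_ (hd.trans h1)
        refine (hp.coprime_iff_not_dvd.2 fun h => ?_).pow_left 2
        exact U'.not_dvd_index (h.trans (relIndex_dvd_index_of_le hU'C))
      exact absurd (Nat.le_of_dvd hp.pos (h2.trans hTd))
        (not_le.2 (by nlinarith [hp.two_le]))
  set R : Finset G := Finset.univ.filter (fun y => ¬ p ∣ orderOf y)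
  set C := Nat.card (centralizer ((P : Subgroup G) : Set G))
  -- a bound on the `p'`-elements of a `p`-nilpotent centralizer
  have hbound : ∀ (K : Subgroup G) (Q : Sylow p G), (Q : Subgroup G) ≤ K → PNil p K →
      (R.filter (· ∈ K)).card * p ^ e ≤ Nat.card K := by
    intro K Q hQK hK
    rw [← hPU Q, ← Nat.card_eq_finsetCard, ← Nat.card_prod]
    refine Nat.card_le_card_of_injective (fun a => (⟨a.1.1 * a.2.1, K.mul_mem
      ((Finset.mem_filter.1 a.1.2).2) (hQK a.2.2)⟩ : K)) ?_
    rintro ⟨⟨y, hy⟩, ⟨q, hq⟩⟩ ⟨⟨y', hy'⟩, ⟨q', hq'⟩⟩ h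
    simp only [R, Finset.mem_filter, Finset.mem_univ, true_and] at hy hy'
    have h' : y * q = y' * q' := congrArg Subtype.val h
    have e1 : y'⁻¹ * y = q' * q⁻¹ := by
      rw [eq_mul_inv_iff_mul_eq, mul_assoc, h', inv_mul_cancel_left]
    have h1 : y'⁻¹ * y = 1 := by
      refine eq_one_of_orders (exists_orderOf_eq_of_isPGroup Q.isPGroup'
        (e1 ▸ (Q : Subgroup G).mul_mem hq' ((Q : Subgroup G).inv_mem hq))) ?_
      have := hK ⟨y'⁻¹, K.inv_mem hy'.2⟩ ⟨y, hy.2⟩
        (by rw [Subgroup.orderOf_mk, orderOf_inv]; exact hy'.1)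
        (by rw [Subgroup.orderOf_mk]; exact hy.1)
      rwa [← Subgroup.orderOf_coe] at this
    have e2 : y' = y := inv_mul_eq_one.1 h1
    subst e2
    exact Prod.ext rfl (Subtype.ext (mul_left_cancel h'))
  -- a bound on `p`-nilpotent centralizers through the Sylow subgroups containing them
  have hfib : ∀ (K : Subgroup G) (Q : Sylow p G), (Q : Subgroup G) ≤ K → PNil p K →
      Nat.card K ≤ C * (Finset.univ.filter fun U : Sylow p G => (U : Subgroup G) ≤ K).card := by
    intro K Q hQK hK
    haveI := Fintype.ofFinite K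
    rw [Nat.card_eq_fintype_card, ← Finset.card_univ]
    have him : ∀ k : K, (k : G) • Q ∈ Finset.univ.filter fun U : Sylow p G => (U : Subgroup G) ≤ K := by
      intro k
      simp only [Finset.mem_filter, Finset.mem_univ, true_and, Sylow.coe_subgroup_smul]
      exact conj_smul_le_of_le hQK k
    refine Finset.card_le_mul_card_image_of_maps_to (f := fun k : K => (k : G) • Q)
      (fun k _ => him k) C fun U _ => ?_
    rcases Finset.eq_empty_or_nonempty (Finset.univ.filter fun k : K => (k : G) • Q = U) with h0 | ⟨k₀, hk₀⟩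
    · rw [h0]; simp
    rw [← Nat.card_eq_finsetCard, show C = Nat.card (centralizer ((Q : Subgroup G) : Set G)) from
      (card_centralizer_sylow P Q).symm]
    refine Nat.card_le_card_of_injective (fun k => (⟨(k₀ : G)⁻¹ * k.1.1, ?_⟩ :
      centralizer ((Q : Subgroup G) : Set G))) fun a b h => ?_
    · refine mem_centralizer_of_pNil hK Q (hab Q) hQK (K.mul_mem (K.inv_mem k₀.2) k.1.2) ?_
      refine Sylow.smul_eq_iff_mem_normalizer.1 ?_
      rw [mul_smul, (Finset.mem_filter.1 k.2).2, ← (Finset.mem_filter.1 hk₀).2, inv_smul_smul]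
    · exact Subtype.ext (Subtype.ext (mul_left_cancel (congrArg Subtype.val h)))
  set us : Finset G := Finset.univ.filter (fun u => u ≠ 1 ∧ ∃ U : Sylow p G, u ∈ (U : Subgroup G))
  set Hs : Finset (Subgroup G) :=
    Finset.univ.filter (fun H => ∃ U : Sylow p G, H ≤ (U : Subgroup G) ∧ H.relIndex (U : Subgroup G) = p)
  -- covering of the whole group
  have hG : Nat.card G ≤ R.card + ∑ u ∈ us, (R.filter (· ∈ centralizer ({u} : Set G))).card := by
    rw [← Finset.card_sigma, Nat.card_eq_fintype_card, ← Finset.card_univ, ← Finset.card_disjSum]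
    refine Finset.card_le_card_of_surjOn (Sum.elim (fun y => y) (fun a => a.1 * a.2)) fun g _ => ?_
    obtain ⟨u, y, rfl, -, -, hc', hu, hy'⟩ := exists_parts p g
    simp only [Set.mem_image, Finset.mem_coe]
    by_cases hu1 : u = 1
    · exact ⟨Sum.inl y, Finset.inl_mem_disjSum.2 (by simp [R, hy']), by simp [hu1]⟩
    · obtain ⟨U, hU⟩ := (isPGroup_zpowers hu).exists_le_sylow
      refine ⟨Sum.inr ⟨u, y⟩, Finset.inr_mem_disjSum.2 (Finset.mem_sigma.2 ⟨?_, ?_⟩), rfl⟩
      · simp only [us, Finset.mem_filter, Finset.mem_univ, true_and]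
        exact ⟨hu1, U, hU (mem_zpowers u)⟩
      · simp only [R, Finset.mem_filter, Finset.mem_univ, true_and]
        exact ⟨hy', mem_centralizer_singleton_iff.2 hc'.eq.symm⟩
  -- covering of the elements of order prime to `p`
  have hR : R.card ≤ ∑ H ∈ Hs, (R.filter (· ∈ centralizer (H : Set G))).card := by
    refine (Finset.card_le_card (fun y hy' => ?_)).trans Finset.card_biUnion_le
    have hy'' : ¬ p ∣ orderOf y := (Finset.mem_filter.1 hy').2
    obtain ⟨U, T, -, hTU, hTy, -, -, hTd⟩ := exists_sylow_centralizer (hy y hy'')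
      (IsPGroup.of_bot (p := p) (G := G)) bot_le
    obtain ⟨H, hHT, hHU, hHi⟩ : ∃ H, H ≤ T ∧ H ≤ (U : Subgroup G) ∧ H.relIndex (U : Subgroup G) = p := by
      rcases (Nat.dvd_prime hp).1 hTd with h | h
      · haveI : Nontrivial (U : Subgroup G) := Finite.one_lt_card_iff_nontrivial.1 (by
          rw [hPU U]; exact Nat.one_lt_pow (fun h0 => hP0 (Subgroup.card_eq_one.1 (by rw [he, h0, pow_zero]))) hp.one_lt)
        obtain ⟨M, hM⟩ := IsCoatomic.exists_coatom (Subgroup (U : Subgroup G))
        refine ⟨M.map (U : Subgroup G).subtype, ?_, map_subtype_le _, ?_⟩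
        · exact (map_subtype_le M).trans (relIndex_eq_one.1 h)
        · rw [Subgroup.relIndex, subgroupOf, comap_map_eq_self_of_injective (subtype_injective _)]
          exact PGroups.index_of_isCoatom U.isPGroup' hM
      · exact ⟨T, le_rfl, hTU, h⟩
    refine Finset.mem_biUnion.2 ⟨H, ?_, Finset.mem_filter.2 ⟨hy', ?_⟩⟩
    · simp only [Hs, Finset.mem_filter, Finset.mem_univ, true_and]
      exact ⟨U, hHU, hHi⟩
    · exact mem_centralizer_iff.2 fun h hh => mem_centralizer_singleton_iff.1 (hTy (hHT hh))
  set n' := Fintype.card (Sylow p G)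
  have hsum1 : (∑ u ∈ us, (R.filter (· ∈ centralizer ({u} : Set G))).card) * p ^ e ≤
      C * (n' * (p ^ e - 1)) := by
    rw [Finset.sum_mul]
    calc _ ≤ ∑ u ∈ us, C * (Finset.univ.filter fun U : Sylow p G => u ∈ (U : Subgroup G)).card := by
          refine Finset.sum_le_sum fun u hu => ?_
          simp only [us, Finset.mem_filter, Finset.mem_univ, true_and] at hu
          obtain ⟨hu1, U, hU⟩ := hu
          have hle : ∀ V : Sylow p G, u ∈ (V : Subgroup G) → (V : Subgroup G) ≤ centralizer ({u} : Set G) :=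
            fun V hV a ha => mem_centralizer_singleton_iff.2
              (congrArg Subtype.val ((hab V).is_comm.comm ⟨a, ha⟩ ⟨u, hV⟩))
          refine ((hbound _ U (hle U hU) (hCu u hu1 U hU)).trans (hfib _ U (hle U hU) (hCu u hu1 U hU))).trans
            (Nat.mul_le_mul_left C (Finset.card_le_card fun V hV => ?_))
          simp only [Finset.mem_filter, Finset.mem_univ, true_and] at hV ⊢
          -- a Sylow subgroup of the centralizer contains the central element `u`
          exact mem_sylow_of_le_centralizer (exists_orderOf_eq_of_isPGroup U.isPGroup' hU) V hV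
      _ = C * ∑ U : Sylow p G, (us.filter fun u => u ∈ (U : Subgroup G)).card := by
          rw [← Finset.mul_sum]
          congr 1
          exact Finset.sum_card_bipartiteAbove_eq_sum_card_bipartiteBelow _
      _ ≤ C * (n' * (p ^ e - 1)) := by
          refine Nat.mul_le_mul_left C ?_
          refine (Finset.sum_le_card_nsmul _ _ (p ^ e - 1) fun U _ => ?_).trans (le_of_eq (by simp [n']))
          have : (us.filter fun u => u ∈ (U : Subgroup G)).card
              ≤ ((Finset.univ.filter fun u => u ∈ (U : Subgroup G)).erase 1).card :=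
            Finset.card_le_card fun u hu => by
              simp only [us, Finset.mem_filter, Finset.mem_univ, true_and] at hu
              simp [hu.1.1, hu.2]
          refine this.trans (le_of_eq ?_)
          rw [Finset.card_erase_of_mem (by simp), ← hPU U, Nat.card_eq_fintype_card,
            Fintype.card_subtype]
  have hsum2 : R.card * p ^ e ≤ C * (n' * (p ^ e - 1)) := by
    refine (Nat.mul_le_mul_right _ hR).trans ?_
    rw [Finset.sum_mul]
    calc _ ≤ ∑ H ∈ Hs, C * (Finset.univ.filter fun U : Sylow p G =>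
              H ≤ (U : Subgroup G) ∧ H.relIndex (U : Subgroup G) = p).card := by
          refine Finset.sum_le_sum fun H hH => ?_
          simp only [Hs, Finset.mem_filter, Finset.mem_univ, true_and] at hH
          obtain ⟨U, hHU, hHi⟩ := hH
          have hle : (U : Subgroup G) ≤ centralizer (H : Set G) := fun a ha =>
            mem_centralizer_iff.2 fun h hh => congrArg Subtype.val
              ((hab U).is_comm.comm ⟨h, hHU hh⟩ ⟨a, ha⟩)
          have hH1 : H ≠ ⊥ := by
            rintro rfl
            rw [relIndex_bot_left, hPU U] at hHi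
            exact he1 (Nat.pow_right_injective hp.two_le (hHi.trans (pow_one p).symm))
          obtain ⟨h₀, hh₀, hh1⟩ := H.bot_or_exists_ne_one.resolve_left hH1
          have hK : PNil p (centralizer (H : Set G)) := by
            intro a b ha hb
            rw [← Subgroup.orderOf_coe] at ha hb ⊢
            have := hCu h₀ hh1 U (hHU hh₀)
              ⟨a.1, mem_centralizer_singleton_iff.2 (mem_centralizer_iff.1 a.2 h₀ hh₀).symm⟩
              ⟨b.1, mem_centralizer_singleton_iff.2 (mem_centralizer_iff.1 b.2 h₀ hh₀).symm⟩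
              (by rwa [Subgroup.orderOf_mk]) (by rwa [Subgroup.orderOf_mk])
            rwa [← Subgroup.orderOf_coe] at this
          refine ((hbound _ U hle hK).trans (hfib _ U hle hK)).trans
            (Nat.mul_le_mul_left C (Finset.card_le_card fun V hV => ?_))
          simp only [Finset.mem_filter, Finset.mem_univ, true_and] at hV ⊢
          have hHV : H ≤ (V : Subgroup G) := fun h hh =>
            mem_sylow_of_le_centralizer (exists_orderOf_eq_of_isPGroup U.isPGroup' (hHU hh)) V (hV.trans (centralizer_le (by simpa using hh)))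
          refine ⟨hHV, ?_⟩
          have h1 := card_mul_relIndex_eq hHU
          have h2 := card_mul_relIndex_eq hHV
          rw [hHi, hPU U] at h1
          rw [hPU V, ← h1] at h2
          exact Nat.eq_of_mul_eq_mul_left Nat.card_pos h2
      _ = C * ∑ U : Sylow p G, (Hs.filter fun H =>
              H ≤ (U : Subgroup G) ∧ H.relIndex (U : Subgroup G) = p).card := by
          rw [← Finset.mul_sum]
          congr 1
          exact Finset.sum_card_bipartiteAbove_eq_sum_card_bipartiteBelow _
      _ ≤ C * (n' * (p ^ e - 1)) := by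
          refine Nat.mul_le_mul_left C ?_
          refine (Finset.sum_le_card_nsmul _ _ (p ^ e - 1) fun U _ => ?_).trans (le_of_eq (by simp [n']))
          refine Nat.le_sub_one_of_lt (lt_of_le_of_lt ?_ ((card_maximal_lt (p := p) (hab U)).trans_eq (hPU U)))
          rw [Nat.card_eq_fintype_card, Fintype.card_subtype]
          exact Finset.card_le_card fun H hH => by
            simp only [Finset.mem_filter, Finset.mem_univ, true_and] at hH ⊢
            exact hH.2
  -- conclusion
  have hN : n' * Nat.card (normalizer ((P : Subgroup G) : Set G)) = Nat.card G := by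
    rw [show n' = Nat.card (Sylow p G) from Nat.card_eq_fintype_card.symm,
      P.card_eq_index_normalizer, mul_comm]
    exact Subgroup.card_mul_index _
  have hle : centralizer ((P : Subgroup G) : Set G) ≤ normalizer ((P : Subgroup G) : Set G) :=
    centralizer_le_normalizer _
  have hlt : Nat.card (normalizer ((P : Subgroup G) : Set G)) < 2 * C := by
    have h1 : Nat.card G * p ^ e ≤ C * (n' * (p ^ e - 1)) + C * (n' * (p ^ e - 1)) :=
      (Nat.mul_le_mul_right _ hG).trans (by rw [add_mul]; exact Nat.add_le_add hsum2 hsum1)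
    have hpe : 0 < p ^ e := pow_pos hp.pos e
    have hn' : 0 < n' := Fintype.card_pos
    have hC : 0 < C := Nat.card_pos
    rw [← hN] at h1
    have h3 : C * (n' * (p ^ e - 1)) < C * (n' * p ^ e) :=
      Nat.mul_lt_mul_of_pos_left (Nat.mul_lt_mul_of_pos_left (by omega) hn') hC
    have h4 : n' * Nat.card (normalizer ((P : Subgroup G) : Set G)) * p ^ e < n' * (2 * C) * p ^ e := by
      calc _ ≤ _ := h1
        _ < C * (n' * p ^ e) + C * (n' * p ^ e) := Nat.add_lt_add h3 h3
        _ = n' * (2 * C) * p ^ e := by ring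
    exact Nat.lt_of_mul_lt_mul_left (Nat.lt_of_mul_lt_mul_right h4)
  have h5 := card_mul_relIndex_eq hle
  have h6 : (centralizer ((P : Subgroup G) : Set G)).relIndex (normalizer ((P : Subgroup G) : Set G)) = 1 := by
    have hpos : 0 < (centralizer ((P : Subgroup G) : Set G)).relIndex (normalizer ((P : Subgroup G) : Set G)) :=
      Nat.pos_of_ne_zero Subgroup.index_ne_zero_of_finite
    rw [← h5, mul_comm 2 C] at hlt
    have := Nat.lt_of_mul_lt_mul_left hlt
    omega
  exact relIndex_eq_one.1 h6

/-- If no class size is divisible by `p ^ 2` for the smallest prime `p`, then the elements of order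
prime to `p` form a subgroup. -/
theorem pNil_of_small : ∀ (n : ℕ) (G : Type*) [Group G] [Finite G], Nat.card G = n → Small p G →
    (∀ x : G, ¬ p ^ 2 ∣ cls x) → PNil p G := by
  intro n
  induction n using Nat.strong_induction_on with
  | _ n ih =>
  intro G _ _ hn hsmall hcls
  obtain ⟨P⟩ := (Sylow.nonempty : Nonempty (Sylow p G))
  by_cases hF : frattini (P : Subgroup G) = ⊥
  · refine pNil_abelian_aux _ G rfl hsmall (fun U => ?_) fun y _ => hcls y
    have hcomm : ∀ a b : (P : Subgroup G), a * b = b * a := fun a b => by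
      have h := (PGroups.commutator_le_frattini' P.isPGroup') (commutator_mem_commutator (mem_top a) (mem_top b))
      rw [hF, mem_bot] at h
      exact commutatorElement_eq_one_iff_mul_comm.1 h
    obtain ⟨g, rfl⟩ := MulAction.exists_smul_eq G P U
    let e := (P : Subgroup G).equivSMul (MulAut.conj g)
    exact ⟨⟨fun a b => e.symm.injective (by simp only [map_mul]; exact hcomm _ _)⟩⟩
  · obtain ⟨z, hz, hz1⟩ := (frattini (P : Subgroup G)).bot_or_exists_ne_one.resolve_left hF
    have hcov : centralizer ({(z : G)} : Set G) = ⊤ := by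
      by_contra hne
      obtain ⟨x, hx⟩ := HallGen.exists_not_mem_conj _ hne
      obtain ⟨U, T, -, hTU, hTx, -, -, hTd⟩ := exists_sylow_centralizer (hcls x)
        (IsPGroup.of_bot (p := p) (G := G)) bot_le
      obtain ⟨g, rfl⟩ := MulAction.exists_smul_eq G P U
      have hzT : g * z * g⁻¹ ∈ T := by
        rcases (Nat.dvd_prime (Fact.out : p.Prime)).1 hTd with h | h
        · refine relIndex_eq_one.1 h ?_
          rw [Sylow.coe_subgroup_smul]
          exact Subgroup.smul_mem_pointwise_smul _ (MulAut.conj g) _ z.2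
        · let T' : Subgroup (P : Subgroup G) := T.comap ((MulAut.conj g).toMonoidHom.comp (P : Subgroup G).subtype)
          have hi : T'.index = p := by
            refine Eq.trans ?_ h
            rw [index_comap, MonoidHom.range_comp, range_subtype, Sylow.coe_subgroup_smul]
            rfl
          haveI : Fact p.Prime := inferInstance
          have hco : IsCoatom T' := by
            refine ⟨fun ht => (Fact.out : p.Prime).ne_one (hi ▸ index_eq_one.2 ht), fun M hM => ?_⟩
            have h2 : M.index ∣ p := (index_dvd_of_le hM.le).trans hi.dvd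
            rcases (Nat.dvd_prime (Fact.out : p.Prime)).1 h2 with h3 | h3
            · exact index_eq_one.1 h3
            · have := relIndex_mul_index hM.le
              rw [hi, h3] at this
              exact absurd (relIndex_eq_one.1 (Nat.eq_of_mul_eq_mul_right (Fact.out : p.Prime).pos
                (this.trans (one_mul p).symm))) (not_le_of_gt hM)
          exact (frattini_le_coatom hco hz : z ∈ T')
      refine hx g (Subgroup.mem_pointwise_smul_iff_inv_smul_mem.2 ?_)
      have hc := mem_centralizer_singleton_iff.1 (hTx hzT)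
      rw [← map_inv, MulAut.smul_def, MulAut.conj_apply, inv_inv, mem_centralizer_singleton_iff]
      calc g⁻¹ * x * g * z = g⁻¹ * (x * (g * z * g⁻¹)) * g := by group
        _ = g⁻¹ * ((g * z * g⁻¹) * x) * g := by rw [hc]
        _ = z * (g⁻¹ * x * g) := by group
    have hzc : (z : G) ∈ center G := mem_center_iff.2 fun g =>
      mem_centralizer_singleton_iff.1 (hcov ▸ mem_top g)
    haveI : (zpowers (z : G)).Normal := ⟨fun x hx g => by
      rwa [mem_center_iff.1 ((zpowers_le.2 hzc) hx) g, mul_inv_cancel_right]⟩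
    refine pNil_of_central (Z := zpowers (z : G)) (zpowers_le.2 hzc)
      (P.isPGroup'.to_le (zpowers_le.2 z.2)) ?_
    refine ih _ ?_ (G ⧸ zpowers (z : G)) rfl (hsmall.quotient _) fun q hd => ?_
    · rw [← hn, (zpowers (z : G)).card_eq_card_quotient_mul_card_subgroup, Nat.card_zpowers]
      exact lt_mul_of_one_lt_right Nat.card_pos (lt_of_le_of_ne (orderOf_pos _)
        (fun h => hz1 (Subtype.ext (orderOf_eq_one_iff.1 h.symm))))
    · obtain ⟨g, rfl⟩ := QuotientGroup.mk'_surjective (zpowers (z : G)) q
      exact hcls g (hd.trans (cls_map_dvd (QuotientGroup.mk'_surjective _) g))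

end CfsgLib.ClassSizes.SquareFree
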