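import Cfsg.Agent.Lib.ClassSizes.SquareFree.PNilpotent
import Cfsg.Agent.Lib.Core.Coprime
import Cfsg.Agent.Lib.Core.Cores
import Cfsg.Agent.Lib.Core.Nilpotent
import Cfsg.Agent.Lib.SolvStruct.ItoProduct
import Cfsg.Agent.Lib.SolvStruct.Supersolvable
import Cfsg.Agent.Lib.ClassSizes.Basic

/-!
# Finite groups with square-free class sizes
-/

set_option autoImplicit false

namespace CfsgLib.ClassSizes.SquareFree

open Subgroup Cfsg
open scoped commutatorElement

/-- All class sizes are square-free. -/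
def CSF (G : Type*) [Group G] : Prop := ∀ x : G, Squarefree (cls x)

variable {G : Type*} [Group G] [Finite G]

theorem CSF.not_sq_dvd (h : CSF G) {p : ℕ} (hp : p.Prime) (x : G) : ¬ p ^ 2 ∣ cls x := fun hd =>
  hp.ne_one (Nat.isUnit_iff.1 (h x p (by rwa [sq] at hd)))

theorem CSF.quotient (h : CSF G) (N : Subgroup G) [N.Normal] : CSF (G ⧸ N) := by
  intro q
  obtain ⟨g, rfl⟩ := QuotientGroup.mk'_surjective N q
  exact (h g).squarefree_of_dvd (cls_map_dvd (QuotientGroup.mk'_surjective N) g)

theorem CSF.normal (h : CSF G) (N : Subgroup G) [N.Normal] : CSF N := fun x =>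
  (h x.1).squarefree_of_dvd (by rw [cls_subgroup]; exact relIndex_dvd_index_of_normal_right N _)

theorem isSolvable_aux : ∀ (n : ℕ) (G : Type*) [Group G] [Finite G], Nat.card G = n → CSF G →
    Group.IsSolvable G := by
  intro n
  induction n using Nat.strong_induction_on with
  | _ n ih =>
  intro G _ _ hn h
  by_cases h1 : Nat.card G = 1
  · haveI : Subsingleton G := (Nat.card_eq_one_iff_unique.1 h1).1
    infer_instance
  haveI : Fact (Nat.card G).minFac.Prime := ⟨Nat.minFac_prime h1⟩
  have hp : PNil (Nat.card G).minFac G := pNil_of_small _ G rfl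
    (fun r hr hd => Nat.minFac_le_of_dvd hr.two_le hd) (h.not_sq_dvd Fact.out)
  haveI : Group.IsSolvable (G ⧸ pNilKer hp) := by
    haveI : Group.IsNilpotent (G ⧸ pNilKer hp) := (isPGroup_quotient_pNilKer hp).isNilpotent
    infer_instance
  haveI : Group.IsSolvable (pNilKer hp) := by
    refine ih _ ?_ _ rfl (h.normal _)
    rw [← hn]
    refine lt_of_le_of_ne (Nat.le_of_dvd Nat.card_pos (Subgroup.card_subgroup_dvd_card _)) fun he => ?_
    refine not_dvd_card_pNilKer hp ?_
    rw [he]
    exact Nat.minFac_dvd _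
  exact Group.isSolvable_of_ker_le_range (pNilKer hp).subtype (QuotientGroup.mk' (pNilKer hp))
    (by rw [QuotientGroup.ker_mk', range_subtype])

theorem CSF.isSolvable (h : CSF G) : Group.IsSolvable G := isSolvable_aux _ G rfl h

/-- Every centralizer has index at most `p` in a normal `p`-subgroup. -/
theorem relIndex_centralizer_le {p : ℕ} [Fact p.Prime] (V : Subgroup G) [V.Normal] (hV : IsPGroup p V)
    {g : G} (hg : ¬ p ^ 2 ∣ cls g) : (centralizer ({g} : Set G)).relIndex V ≤ p := by
  obtain ⟨U, T, -, hTU, hTg, -, -, hTd⟩ := exists_sylow_centralizer hg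
    (IsPGroup.of_bot (p := p) (G := G)) bot_le
  have hVU : V ≤ (U : Subgroup G) :=
    (Core.le_pCore hV).trans (Core.pCore_le_sylow U)
  calc (centralizer ({g} : Set G)).relIndex V ≤ T.relIndex V :=
        relIndex_le_of_le_left hTg Subgroup.index_ne_zero_of_finite
    _ ≤ T.relIndex (U : Subgroup G) := relIndex_le_of_le_right hVU Subgroup.index_ne_zero_of_finite
    _ ≤ p := Nat.le_of_dvd (Fact.out : p.Prime).pos hTd

/-- `v ↦ g v g⁻¹ v⁻¹` on an abelian normal subgroup. -/
def move (V : Subgroup G) [hn : V.Normal] (hV : IsMulCommutative V) (g : G) : V →* G where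
  toFun v := g * v * g⁻¹ * (v : G)⁻¹
  map_one' := by simp
  map_mul' v w := by
    have hc : ∀ {a b : G}, a ∈ V → b ∈ V → a * b = b * a := fun {a b} ha hb =>
      congrArg Subtype.val (hV.is_comm.comm ⟨a, ha⟩ ⟨b, hb⟩)
    have h1 : g * (w : G) * g⁻¹ * (w : G)⁻¹ ∈ V := mul_mem (hn.conj_mem _ w.2 g) (inv_mem w.2)
    calc g * ((v * w : V) : G) * g⁻¹ * ((v * w : V) : G)⁻¹
        = g * v * g⁻¹ * ((g * w * g⁻¹ * (w : G)⁻¹) * (v : G)⁻¹) := by
          simp only [Subgroup.coe_mul]; group
      _ = g * v * g⁻¹ * ((v : G)⁻¹ * (g * w * g⁻¹ * (w : G)⁻¹)) := by rw [hc h1 (inv_mem v.2)]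
      _ = g * v * g⁻¹ * (v : G)⁻¹ * (g * w * g⁻¹ * (w : G)⁻¹) := by group

section Move

variable {V : Subgroup G} [hn : V.Normal] {hV : IsMulCommutative V} {g h : G}

theorem move_apply (v : V) : move V hV g v = g * v * g⁻¹ * (v : G)⁻¹ := rfl

theorem range_move_le : (move V hV g).range ≤ V := by
  rintro _ ⟨v, rfl⟩
  exact mul_mem (hn.conj_mem _ v.2 g) (inv_mem v.2)

theorem ker_move : (move V hV g).ker = (centralizer ({g} : Set G)).subgroupOf V := by
  ext v
  rw [MonoidHom.mem_ker, move_apply, mem_subgroupOf, mem_centralizer_singleton_iff, mul_inv_eq_one,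
    mul_inv_eq_iff_eq_mul, eq_comm]

theorem card_range_move : Nat.card (move V hV g).range = (centralizer ({g} : Set G)).relIndex V := by
  rw [← Subgroup.index_ker, ker_move]
  rfl

variable {p : ℕ} [Fact p.Prime]

theorem card_range_eq (hp : IsPGroup p V) (hle : (centralizer ({g} : Set G)).relIndex V ≤ p)
    (hne : (move V hV g).range ≠ ⊥) : Nat.card (move V hV g).range = p := by
  obtain ⟨k, hk⟩ := (hp.to_le (range_move_le (hV := hV) (g := g))).exists_card_eq
    (G := (move V hV g).range)
  rw [← card_range_move (hV := hV), hk] at hle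
  rcases Nat.lt_trichotomy k 1 with h0 | h1 | h2
  · exact absurd (Subgroup.card_eq_one.1 (by rw [hk, show k = 0 by omega, pow_zero])) hne
  · rw [hk, h1, pow_one]
  · exact absurd hle (not_le.2 (lt_self_pow₀ (Fact.out : p.Prime).one_lt h2))

/-- Two elements moving an abelian normal `p`-subgroup have the same fixed points or the same
commutators, if no element has more than `p` commutators. -/
theorem move_pair (hp : IsPGroup p V) (hall : ∀ a : G, (centralizer ({a} : Set G)).relIndex V ≤ p)
    (hg : (move V hV g).range ≠ ⊥) (hh : (move V hV h).range ≠ ⊥) :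
    (move V hV g).ker = (move V hV h).ker ∨ (move V hV g).range = (move V hV h).range := by
  by_contra hne
  push_neg at hne
  obtain ⟨hk, hr⟩ := hne
  have hpr : p.Prime := Fact.out
  have hidx : ∀ {a : G}, (move V hV a).range ≠ ⊥ → (move V hV a).ker.index = p := fun {a} ha => by
    rw [Subgroup.index_ker]; exact card_range_eq hp (hall a) ha
  have hnle : ∀ {a b : G}, (move V hV a).range ≠ ⊥ → (move V hV b).range ≠ ⊥ →
      (move V hV a).ker ≠ (move V hV b).ker → ¬ (move V hV a).ker ≤ (move V hV b).ker := by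
    intro a b ha hb hab hle
    have := relIndex_mul_index hle
    rw [hidx ha, hidx hb] at this
    exact hab (le_antisymm hle (relIndex_eq_one.1 (Nat.eq_of_mul_eq_mul_right hpr.pos
      (this.trans (one_mul p).symm))))
  -- elements of prime order generate the two ranges
  have hgen : ∀ {a : G} {x : G}, (move V hV a).range ≠ ⊥ → x ∈ (move V hV a).range → x ≠ 1 →
      ∀ {S : Subgroup G}, x ∈ S → (move V hV a).range ≤ S := by
    intro a x ha hx hx1 S hxS
    have hz : zpowers x = (move V hV a).range := by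
      refine Subgroup.eq_of_le_of_card_ge (zpowers_le.2 hx) ?_
      have hd : orderOf x ∣ p := by
        rw [← card_range_eq hp (hall a) ha, ← Subgroup.orderOf_mk x hx]
        exact orderOf_dvd_natCard _
      rw [card_range_eq hp (hall a) ha, Nat.card_zpowers,
        ((Nat.dvd_prime hpr).1 hd).resolve_left (fun h => hx1 (orderOf_eq_one_iff.1 h))]
    exact hz ▸ zpowers_le.2 hxS
  obtain ⟨v₁, hv₁h, hv₁g⟩ := SetLike.not_le_iff_exists.1 (hnle hh hg (Ne.symm hk))
  obtain ⟨v₂, hv₂g, hv₂h⟩ := SetLike.not_le_iff_exists.1 (hnle hg hh hk)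
  have e1 : move V hV (g * h) v₁ = move V hV g v₁ := by
    rw [MonoidHom.mem_ker, move_apply, mul_inv_eq_one] at hv₁h
    simp only [move_apply]
    calc g * h * v₁ * (g * h)⁻¹ * (v₁ : G)⁻¹ = g * (h * v₁ * h⁻¹) * g⁻¹ * (v₁ : G)⁻¹ := by group
      _ = _ := by rw [hv₁h]
  have hgle : (move V hV g).range ≤ (move V hV (g * h)).range :=
    hgen hg ⟨v₁, rfl⟩ (fun h1 => hv₁g h1) ⟨v₁, e1⟩
  let w : V := ⟨move V hV h v₂, range_move_le ⟨v₂, rfl⟩⟩
  have e2 : move V hV (g * h) v₂ = move V hV g w * move V hV h v₂ := by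
    rw [MonoidHom.mem_ker, move_apply, mul_inv_eq_one] at hv₂g
    simp only [w, move_apply]
    calc g * h * v₂ * (g * h)⁻¹ * (v₂ : G)⁻¹
        = g * (h * v₂ * h⁻¹ * (v₂ : G)⁻¹) * g⁻¹ * (g * v₂ * g⁻¹) * (v₂ : G)⁻¹ := by group
      _ = g * (h * v₂ * h⁻¹ * (v₂ : G)⁻¹) * g⁻¹ * v₂ * (v₂ : G)⁻¹ := by rw [hv₂g]
      _ = _ := by group
  have hhle : (move V hV h).range ≤ (move V hV (g * h)).range := by
    refine hgen hh ⟨v₂, rfl⟩ (fun h1 => hv₂h h1) ?_
    have h2 : move V hV (g * h) v₂ ∈ (move V hV (g * h)).range := ⟨v₂, rfl⟩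
    rw [e2] at h2
    exact (Subgroup.mul_mem_cancel_left _ (hgle ⟨w, rfl⟩)).1 h2
  have hgh : (move V hV (g * h)).range ≠ ⊥ := fun h0 => hg (le_bot_iff.1 (h0 ▸ hgle))
  have c1 := Subgroup.eq_of_le_of_card_ge hgle
    (by rw [card_range_eq hp (hall _) hgh, card_range_eq hp (hall _) hg])
  have c2 := Subgroup.eq_of_le_of_card_ge hhle
    (by rw [card_range_eq hp (hall _) hgh, card_range_eq hp (hall _) hh])
  exact hr (c1.trans c2.symm)

theorem move_dichotomy (hp : IsPGroup p V) (hall : ∀ a : G, (centralizer ({a} : Set G)).relIndex V ≤ p) :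
    (∀ a b : G, (move V hV a).range ≠ ⊥ → (move V hV b).range ≠ ⊥ →
      (move V hV a).ker = (move V hV b).ker) ∨
    (∀ a b : G, (move V hV a).range ≠ ⊥ → (move V hV b).range ≠ ⊥ →
      (move V hV a).range = (move V hV b).range) := by
  by_contra hne
  push_neg at hne
  obtain ⟨⟨a, b, ha, hb, hab⟩, c, d, hc, hd, hcd⟩ := hne
  have hr := (move_pair hp hall ha hb).resolve_left hab
  -- every element has the commutators of `a`
  have key : ∀ {e : G}, (move V hV e).range ≠ ⊥ → (move V hV e).range = (move V hV a).range := by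
    intro e he
    rcases move_pair hp hall he ha with h1 | h1
    · rcases move_pair hp hall he hb with h2 | h2
      · exact absurd (h1.symm.trans h2) hab
      · exact h2.trans hr.symm
    · exact h1
  exact hcd ((key hc).trans (key hd).symm)

end Move

/-- A minimal normal subgroup of a group with square-free class sizes has prime order. -/
theorem card_minimal_normal (h : CSF G) {p : ℕ} [Fact p.Prime] (V : Subgroup G) [V.Normal]
    (hp : IsPGroup p V) (hV : IsMulCommutative V) (hne : V ≠ ⊥)
    (hmin : ∀ W : Subgroup G, W.Normal → W ≤ V → W ≠ ⊥ → W = V) : IsCyclic V := by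
  have hpr : p.Prime := Fact.out
  have hall : ∀ a : G, (centralizer ({a} : Set G)).relIndex V ≤ p := fun a =>
    relIndex_centralizer_le V hp (h.not_sq_dvd hpr a)
  by_cases hmv : ∃ a : G, (move V hV a).range ≠ ⊥
  swap
  · push_neg at hmv
    obtain ⟨v, hv, hv1⟩ := V.bot_or_exists_ne_one.resolve_left hne
    have hcen : v ∈ center G := mem_center_iff.2 fun g => by
      have h1 : move V hV g ⟨v, hv⟩ ∈ (⊥ : Subgroup G) := hmv g ▸ ⟨_, rfl⟩
      rwa [mem_bot, move_apply, mul_inv_eq_one, mul_inv_eq_iff_eq_mul] at h1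
    have : zpowers v = V := hmin _ ⟨fun x hx g => by
      rwa [mem_center_iff.1 ((zpowers_le.2 hcen) hx) g, mul_inv_cancel_right]⟩ (zpowers_le.2 hv)
      (by rwa [Ne, zpowers_eq_bot])
    exact this ▸ inferInstance
  obtain ⟨a, ha⟩ := hmv
  have hsub : ∀ x : G, (move V hV (x * a * x⁻¹)).range ≠ ⊥ := by
    intro x h0
    refine ha (le_bot_iff.1 ?_)
    rintro _ ⟨v, rfl⟩
    have h1 : move V hV (x * a * x⁻¹) ⟨x * v * x⁻¹, Subgroup.Normal.conj_mem inferInstance _ v.2 x⟩
        ∈ (⊥ : Subgroup G) := h0 ▸ ⟨_, rfl⟩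
    rw [mem_bot, move_apply] at h1
    rw [mem_bot, move_apply]
    have h2 : x * (a * v * a⁻¹ * (v : G)⁻¹) * x⁻¹ = 1 := by rw [← h1]; group
    rwa [conj_eq_one_iff] at h2
  rcases move_dichotomy hp hall with hk | hr
  · let K := V ⊓ centralizer ({a} : Set G)
    haveI : K.Normal := by
      refine ⟨fun v hv x => ⟨Subgroup.Normal.conj_mem inferInstance _ hv.1 x, ?_⟩⟩
      have h1 : (⟨v, hv.1⟩ : V) ∈ (move V hV (x⁻¹ * a * x)).ker := by
        rw [hk (x⁻¹ * a * x) a (by simpa using hsub x⁻¹) ha, ker_move]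
        exact hv.2
      rw [ker_move, mem_subgroupOf, mem_centralizer_singleton_iff] at h1
      refine mem_centralizer_singleton_iff.2 ?_
      calc x * v * x⁻¹ * a = x * (v * (x⁻¹ * a * x)) * x⁻¹ := by group
        _ = x * ((x⁻¹ * a * x) * v) * x⁻¹ := by rw [h1]
        _ = a * (x * v * x⁻¹) := by group
    rcases eq_or_ne K ⊥ with hK0 | hK0
    · obtain ⟨k, hk'⟩ := hp.exists_card_eq (G := V)
      refine isCyclic_of_prime_card (p := p) ?_
      have h1 : Nat.card V ≤ p := by
        have := hall a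
        rw [← Subgroup.inf_relIndex_right, inf_comm,
          show V ⊓ centralizer ({a} : Set G) = ⊥ from hK0, relIndex_bot_left] at this
        exact this
      rw [hk'] at h1 ⊢
      rcases Nat.lt_trichotomy k 1 with h0 | h0 | h0
      · exact absurd (Subgroup.card_eq_one.1 (by rw [hk', show k = 0 by omega, pow_zero])) hne
      · rw [h0, pow_one]
      · exact absurd h1 (not_le.2 (lt_self_pow₀ hpr.one_lt h0))
    · refine absurd ?_ ha
      have hKV := hmin K inferInstance inf_le_left hK0
      rw [MonoidHom.range_eq_bot_iff, ← MonoidHom.ker_eq_top_iff, ker_move, subgroupOf_eq_top]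
      exact hKV ▸ inf_le_right
  · let I := (move V hV a).range
    haveI : I.Normal := by
      refine ⟨fun v hv x => ?_⟩
      obtain ⟨w, rfl⟩ := hv
      show _ ∈ (move V hV a).range
      rw [← hr (x * a * x⁻¹) a (hsub x) ha]
      exact ⟨⟨x * w * x⁻¹, Subgroup.Normal.conj_mem inferInstance _ w.2 x⟩, by
        simp only [move_apply]; group⟩
    have hIV := hmin I inferInstance range_move_le ha
    refine isCyclic_of_prime_card (p := p) ?_
    rw [← hIV]
    exact card_range_eq hp (hall a) ha

/-- A normal `p`-subgroup of prime order or abelian minimal normal subgroup exists in solvable groups. -/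
theorem exists_minimal_normal [Group.IsSolvable G] [Nontrivial G] :
    ∃ (p : ℕ) (V : Subgroup G), p.Prime ∧ V.Normal ∧ V ≠ ⊥ ∧ IsPGroup p V ∧ IsMulCommutative V ∧
      ∀ W : Subgroup G, W.Normal → W ≤ V → W ≠ ⊥ → W = V := by
  obtain ⟨V, ⟨hVn, hV0⟩, hmin⟩ := Set.Finite.exists_minimal (Set.toFinite {N : Subgroup G | N.Normal ∧ N ≠ ⊥})
    ⟨⊤, inferInstance, top_ne_bot⟩
  have hmin' : ∀ W : Subgroup G, W.Normal → W ≤ V → W ≠ ⊥ → W = V := fun W h1 h2 h3 =>
    le_antisymm h2 (hmin ⟨h1, h3⟩ h2)
  haveI := hVn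
  have hab : IsMulCommutative V := by
    have hlt : ⁅V, V⁆ < V := Group.IsSolvable.commutator_lt_of_ne_bot hV0
    have h0 : ⁅V, V⁆ = ⊥ := by
      by_contra hne
      exact hlt.ne (hmin' _ inferInstance hlt.le hne)
    exact ⟨⟨fun a b => Subtype.ext (commutatorElement_eq_one_iff_mul_comm.1
      (mem_bot.1 (h0 ▸ commutator_mem_commutator a.2 b.2)))⟩⟩
  obtain ⟨p, hp, hd⟩ := Nat.exists_prime_and_dvd (n := Nat.card V)
    (fun h => hV0 (Subgroup.card_eq_one.1 h))
  haveI := Fact.mk hp
  letI : CommGroup V := { (inferInstance : Group V) with mul_comm := hab.is_comm.comm }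
  obtain ⟨S⟩ := (Sylow.nonempty : Nonempty (Sylow p V))
  haveI : (S : Subgroup V).Characteristic := S.characteristic_of_normal inferInstance
  have hS : (S : Subgroup V).map V.subtype = V := by
    refine hmin' _ inferInstance (map_subtype_le _) ?_
    rw [Ne, map_eq_bot_iff_of_injective _ V.subtype_injective]
    exact Sylow.ne_bot_of_dvd_card S hd
  exact ⟨p, V, hp, hVn, hV0, hS ▸ S.isPGroup'.map _, hab, hmin'⟩

theorem isSupersolvable_aux : ∀ (n : ℕ) (G : Type*) [Group G] [Finite G], Nat.card G = n → CSF G →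
    Cfsg.IsSupersolvable G := by
  intro n
  induction n using Nat.strong_induction_on with
  | _ n ih =>
  intro G _ _ hn h
  rcases subsingleton_or_nontrivial G with hs | hs
  · exact SolvStruct.isSupersolvable_of_subsingleton
  haveI := h.isSolvable
  obtain ⟨p, V, hp, hVn, hV0, hVp, hVa, hmin⟩ := exists_minimal_normal (G := G)
  haveI := Fact.mk hp
  haveI := card_minimal_normal h V hVp hVa hV0 hmin
  exact SolvStruct.isSupersolvable_of_quotient_cyclic V
    (ih _ (hn ▸ CfsgLib.Components.card_quotient_lt hV0) _ rfl (h.quotient V))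

theorem CSF.isSupersolvable (h : CSF G) : Cfsg.IsSupersolvable G := isSupersolvable_aux _ G rfl h

theorem commutator_le_fitting (h : CSF G) : commutator G ≤ fittingSubgroup G :=
  Core.le_fittingSubgroup (SolvStruct.commutator_isNilpotent h.isSupersolvable)

/-- A point of an abelian `p`-subgroup moved by every `q`-element that moves the subgroup. -/
theorem exists_moved {p q : ℕ} [Fact p.Prime] [Fact q.Prime] (hpq : p ≠ q) (V : Subgroup G) [V.Normal]
    (hV : IsMulCommutative V) (hp : IsPGroup p V)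
    (hall : ∀ a : G, (centralizer ({a} : Set G)).relIndex V ≤ p) (Q : Subgroup G) (hQ : IsPGroup q Q)
    (hQc : ∀ g ∈ Q, ∀ h ∈ Q, g⁻¹ * h⁻¹ * g * h ∈ centralizer (V : Set G)) :
    ∃ v ∈ V, ∀ g ∈ Q, Commute g v → V ≤ centralizer ({g} : Set G) := by
  have htriv : ∀ g : G, (move V hV g).range = ⊥ → V ≤ centralizer ({g} : Set G) := by
    intro g hg
    rw [MonoidHom.range_eq_bot_iff, ← MonoidHom.ker_eq_top_iff, ker_move, subgroupOf_eq_top] at hg
    exact hg
  by_cases hmv : ∃ a ∈ Q, (move V hV a).range ≠ ⊥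
  swap
  · push_neg at hmv
    exact ⟨1, V.one_mem, fun g hg _ => htriv g (hmv g hg)⟩
  obtain ⟨a, haQ, ha⟩ := hmv
  have hker : ∀ b ∈ Q, (move V hV b).range ≠ ⊥ → (move V hV b).ker ≤ (move V hV a).ker := by
    intro b hbQ hb
    by_contra hle
    obtain ⟨v, hvb, hva⟩ := SetLike.not_le_iff_exists.1 hle
    have hr : (move V hV a).range = (move V hV b).range :=
      (move_pair hp hall ha hb).resolve_left fun h => hle h.ge
    rw [ker_move, mem_subgroupOf, mem_centralizer_singleton_iff] at hvb
    set d := move V hV a v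
    have hdV : d ∈ V := range_move_le ⟨v, rfl⟩
    have hd2 : d ∈ ⁅V, zpowers b⁆ := by
      obtain ⟨w, hw⟩ : d ∈ (move V hV b).range := hr ▸ ⟨v, rfl⟩
      rw [← hw, move_apply]
      have h2 := commutator_mem_commutator w.2 (mem_zpowers b)
      have h3 : ⁅(w : G), b⁆⁻¹ = b * w * b⁻¹ * (w : G)⁻¹ := by rw [commutatorElement_def]; group
      exact h3 ▸ inv_mem h2
    have hd3 : d ∈ centralizer (zpowers b : Set G) := by
      refine mem_centralizer_iff.2 fun z hz => ?_
      obtain ⟨i, rfl⟩ := mem_zpowers_iff.1 hz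
      refine (Commute.zpow_left ?_ i).eq
      have hc := mem_centralizer_iff.1 (hQc a haQ b hbQ) (v : G) v.2
      show b * d = d * b
      simp only [d, move_apply]
      calc b * (a * v * a⁻¹ * (v : G)⁻¹)
          = a * b * ((b⁻¹ * a⁻¹ * b * a) * v) * a⁻¹ * (v : G)⁻¹ := by group
        _ = a * b * (v * (b⁻¹ * a⁻¹ * b * a)) * a⁻¹ * (v : G)⁻¹ := by
            rw [mem_centralizer_iff.1 (hQc b hbQ a haQ) (v : G) v.2]
        _ = a * (b * v) * b⁻¹ * a⁻¹ * b * (v : G)⁻¹ := by group
        _ = a * (v * b) * b⁻¹ * a⁻¹ * b * (v : G)⁻¹ := by rw [hvb]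
        _ = a * v * a⁻¹ * (b * (v : G)⁻¹) := by group
        _ = a * v * a⁻¹ * ((v : G)⁻¹ * b) := by
            rw [show b * (v : G)⁻¹ = (v : G)⁻¹ * b from (Commute.inv_left (show Commute (v : G) b from hvb)).eq.symm]
        _ = a * v * a⁻¹ * (v : G)⁻¹ * b := by group
    have hcop : (Nat.card (zpowers b)).Coprime (Nat.card V) :=
      (IsPGroup.coprime_card_of_ne q p hpq.symm _ _ (hQ.to_le (zpowers_le.2 hbQ)) hp)
    have h1 := Core.abelian_inf_eq_bot (A := zpowers b) (V := V)
      (zpowers_le.2 (by rw [normalizer_eq_top]; exact mem_top _)) hcop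
    have hd0 : d ∈ (⊥ : Subgroup G) := h1 ▸ ⟨⟨hdV, hd3⟩, hd2⟩
    exact hva (MonoidHom.mem_ker.2 (mem_bot.1 hd0))
  obtain ⟨v, hv⟩ : ∃ v : V, v ∉ (move V hV a).ker := by
    by_contra hall'
    push_neg at hall'
    exact ha (MonoidHom.range_eq_bot_iff.2 (MonoidHom.ker_eq_top_iff.1 (eq_top_iff.2 fun v _ => hall' v)))
  refine ⟨v, v.2, fun g hg hc => htriv g ?_⟩
  by_contra hne
  exact hv (hker g hg hne (by rw [ker_move, mem_subgroupOf, mem_centralizer_singleton_iff]; exact hc.eq.symm))

theorem not_sq_dvd_index_of_abelian (h : CSF G) (hab : IsMulCommutative (fittingSubgroup G)) (q : ℕ)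
    [Fact q.Prime] : ¬ q ^ 2 ∣ (fittingSubgroup G).index := by
  classical
  intro hd
  have hq : q.Prime := Fact.out
  set F := fittingSubgroup G
  have hGF : commutator G ≤ F := commutator_le_fitting h
  obtain ⟨Q⟩ := (Sylow.nonempty : Nonempty (Sylow q G))
  have hFc : ∀ {a b : G}, a ∈ F → b ∈ F → Commute a b := fun {a b} ha hb =>
    congrArg Subtype.val (hab.is_comm.comm ⟨a, ha⟩ ⟨b, hb⟩)
  let s := ((Nat.card G).primeFactors).erase q
  have hx : ∀ t : Finset ℕ, t ⊆ s → ∃ x ∈ F, (∀ r : ℕ, r.Prime → r ∣ orderOf x → r ∈ t) ∧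
      ∀ g ∈ (Q : Subgroup G), Commute g x → ∀ r ∈ t, pCore r G ≤ centralizer ({g} : Set G) := by
    intro t
    induction t using Finset.induction_on with
    | empty => exact fun _ => ⟨1, F.one_mem, fun r hr hd => absurd (by simpa using hd) hr.ne_one, by simp⟩
    | @insert r t hrt ih =>
      intro ht
      obtain ⟨x, hxF, hxo, hxc⟩ := ih fun a ha => ht (Finset.mem_insert_of_mem ha)
      have hr := ht (Finset.mem_insert_self r t)
      simp only [s, Finset.mem_erase] at hr
      haveI : Fact r.Prime := ⟨Nat.prime_of_mem_primeFactors hr.2⟩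
      have hrF : pCore r G ≤ F := Core.pCore_le_fittingSubgroup r
      obtain ⟨v, hv, hvc⟩ := exists_moved hr.1 (pCore r G)
        ⟨⟨fun a b => Subtype.ext (hFc (hrF a.2) (hrF b.2)).eq⟩⟩ (Core.isPGroup_pCore r G)
        (fun a => relIndex_centralizer_le _ (Core.isPGroup_pCore r G) (h.not_sq_dvd Fact.out a))
        Q Q.isPGroup' (fun a _ b _ => mem_centralizer_iff.2 fun c hc =>
          (hFc (hrF hc) (hGF (by
            have h5 := commutator_mem_commutator (mem_top a⁻¹) (mem_top b⁻¹)
            rw [commutatorElement_def, inv_inv, inv_inv] at h5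
            exact h5))).eq)
      have hcxv : Commute x v := hFc hxF (hrF hv)
      have hco : (orderOf x).Coprime (orderOf v) := by
        obtain ⟨k, hk⟩ := exists_orderOf_eq_of_isPGroup (Core.isPGroup_pCore r G) hv
        rw [hk]
        refine Nat.Coprime.pow_right k ((Fact.out : r.Prime).coprime_iff_not_dvd.2 fun h' => ?_).symm
        exact hrt (hxo r Fact.out h')
      refine ⟨x * v, F.mul_mem hxF (hrF hv), ?_, fun g hg hc => ?_⟩
      · intro l hl hd
        rcases hl.dvd_mul.1 (hd.trans hcxv.orderOf_mul_dvd_mul_orderOf) with h' | h'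
        · exact Finset.mem_insert_of_mem (hxo l hl h')
        · obtain ⟨k, hk⟩ := exists_orderOf_eq_of_isPGroup (Core.isPGroup_pCore r G) hv
          rw [hk] at h'
          rw [(Nat.prime_dvd_prime_iff_eq hl Fact.out).1 (hl.dvd_of_dvd_pow h')]
          exact Finset.mem_insert_self r t
      · have hgx : Commute g x := by
          obtain ⟨m, hm⟩ := exists_pow_eq_self_of_coprime hco.symm
          rw [← hm]
          refine Commute.pow_right ?_ m
          have := hc.pow_right (orderOf v)
          rwa [hcxv.mul_pow, pow_orderOf_eq_one, mul_one] at this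
        have hgv : Commute g v := by
          have := hgx.inv_right.mul_right hc
          rwa [inv_mul_cancel_left] at this
        intro l hl
        rcases Finset.mem_insert.1 hl with rfl | hl
        · exact hvc g hg hgv
        · exact hxc g hg hgx l hl
  obtain ⟨x, hxF, -, hxc⟩ := hx s subset_rfl
  set C := centralizer ({x} : Set G)
  have hFC : F ≤ C := fun a ha => mem_centralizer_singleton_iff.2 (hFc ha hxF).eq
  haveI : C.Normal := Subgroup.Normal.of_commutator_le _ (hGF.trans hFC)
  have hCQ : C ⊓ (Q : Subgroup G) ≤ F := by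
    rintro g ⟨hgC, hgQ⟩
    have hgs := hxc g hgQ (mem_centralizer_singleton_iff.1 hgC)
    let H := pCore q G ⊔ zpowers g
    let K := s.sup (fun r => pCore r G)
    have hHp : IsPGroup q H :=
      Q.isPGroup'.to_le (sup_le (Core.pCore_le_sylow Q) (zpowers_le.2 hgQ))
    have hKF : K ≤ F := Finset.sup_le fun r hr => by
      haveI : Fact r.Prime := ⟨Nat.prime_of_mem_primeFactors (Finset.mem_of_mem_erase hr)⟩
      exact Core.pCore_le_fittingSubgroup r
    have hFHK : F ≤ H ⊔ K := by
      rw [show F = _ from Core.fittingSubgroup_eq_finset_sup]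
      refine Finset.sup_le fun r hr => ?_
      by_cases hrq : r = q
      · subst hrq; exact le_sup_left.trans le_sup_left
      · exact (Finset.le_sup (f := fun r => pCore r G) (Finset.mem_erase.2 ⟨hrq, hr⟩)).trans le_sup_right
    haveI : Group.IsNilpotent H := hHp.isNilpotent
    haveI : Group.IsNilpotent K := by
      haveI : Group.IsNilpotent F := Core.isNilpotent_fittingSubgroup G
      exact Core.isNilpotent_of_le hKF
    have hHK : H ≤ centralizer (K : Set G) := by
      refine sup_le (fun a ha => mem_centralizer_iff.2 fun k hk => (hFc (hKF hk) (Core.pCore_le_fittingSubgroup q ha)).eq) ?_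
      rw [zpowers_le]
      refine mem_centralizer_iff.2 fun k hk => ?_
      have : K ≤ centralizer ({g} : Set G) := Finset.sup_le fun r hr => hgs r hr
      exact mem_centralizer_singleton_iff.1 (this hk)
    have hnil : Group.IsNilpotent (H ⊔ K : Subgroup G) := Core.isNilpotent_sup_of_commute H K fun a ha k hk => (mem_centralizer_iff.1 (hHK ha) k hk).symm
    haveI : (H ⊔ K).Normal := Subgroup.Normal.of_commutator_le _ (hGF.trans hFHK)
    exact Core.le_fittingSubgroup hnil (mem_sup_left (mem_sup_right (mem_zpowers g)))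
  have h1 : q ^ 2 ∣ F.relIndex (Q : Subgroup G) := by
    refine Nat.Coprime.dvd_of_dvd_mul_right ?_ (hd.trans ?_) (n := (Q : Subgroup G).index)
    · exact ((hq.coprime_iff_not_dvd.2 Q.not_dvd_index).pow_left 2)
    · rw [← inf_relIndex_right, relIndex_mul_index inf_le_right]
      exact index_dvd_of_le inf_le_left
  have h2 : F.relIndex (Q : Subgroup G) ∣ C.relIndex (Q : Subgroup G) := by
    rw [← inf_relIndex_right C]
    exact relIndex_dvd_of_le_left _ hCQ
  exact h.not_sq_dvd hq x (h1.trans (h2.trans (relIndex_dvd_index_of_normal C _)))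

theorem map_frattini_le (N : Subgroup G) [N.Normal] : (frattini N).map N.subtype ≤ frattini G := by
  haveI : (frattini N).Characteristic := inferInstance
  refine le_iInf₂ fun M hM => ?_
  by_contra hle
  have htop : (frattini N).map N.subtype ⊔ M = ⊤ := hM.2 _ (lt_of_le_of_ne le_sup_right
    (fun he => hle (he ▸ le_sup_left)))
  have h1 : M.subgroupOf N ⊔ frattini N = ⊤ := by
    refine eq_top_iff.2 fun n _ => ?_
    have hmem : (n : G) ∈ (frattini N).map N.subtype ⊔ M := htop ▸ mem_top _
    obtain ⟨a, ha, m, hm, he⟩ := mem_sup_of_normal_left.1 hmem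
    obtain ⟨b, hb, rfl⟩ := ha
    have hmN : m ∈ N := by
      have : m = ((b⁻¹ * n : N) : G) := by rw [Subgroup.coe_mul, ← he]; simp
      exact this ▸ (b⁻¹ * n : N).2
    have : n = b * ⟨m, hmN⟩ := Subtype.ext he.symm
    rw [this]
    exact mul_mem (mem_sup_right hb) (mem_sup_left (by exact hm))
  exact hle ((map_subtype_le _).trans (subgroupOf_eq_top.1 (frattini_nongenerating h1)))

theorem CSF.not_sq_dvd_index (h : CSF G) (q : ℕ) [Fact q.Prime] :
    ¬ q ^ 2 ∣ (fittingSubgroup G).index := by
  classical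
  set f := QuotientGroup.mk' (frattini G)
  have hF : fittingSubgroup (G ⧸ frattini G) = (fittingSubgroup G).map f :=
    Core.fittingSubgroup_quotient_frattini
  have hab : IsMulCommutative (fittingSubgroup (G ⧸ frattini G)) := by
    have hle : (fittingSubgroup G).map f ≤ centralizer (((fittingSubgroup G).map f : Subgroup _) : Set (G ⧸ frattini G)) := by
      rw [Core.fittingSubgroup_eq_finset_sup, Finset.sup_eq_iSup, Subgroup.map_iSup]
      refine iSup_le fun r => ?_
      rw [Subgroup.map_iSup]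
      refine iSup_le fun hr => ?_
      rw [le_centralizer_iff]
      refine iSup_le fun l => ?_
      rw [Subgroup.map_iSup]
      refine iSup_le fun hl => ?_
      rw [le_centralizer_iff]
      rintro _ ⟨a, ha, rfl⟩
      rw [mem_centralizer_iff]
      rintro _ ⟨b, hb, rfl⟩
      have hrp := Nat.prime_of_mem_primeFactors hr
      have hlp := Nat.prime_of_mem_primeFactors hl
      rcases eq_or_ne r l with rfl | hne
      · haveI := Fact.mk hrp
        have hm : ⁅(⟨b, hb⟩ : pCore r G), ⟨a, ha⟩⁆ ∈ frattini (pCore r G) :=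
          PGroups.commutator_le_frattini' (Core.isPGroup_pCore r G)
            (commutator_mem_commutator (mem_top _) (mem_top _))
        have hm2 : ⁅b, a⁆ ∈ frattini G := map_frattini_le _ ⟨_, hm, rfl⟩
        have : f ⁅b, a⁆ = 1 := (QuotientGroup.eq_one_iff _).2 hm2
        rwa [map_commutatorElement, commutatorElement_eq_one_iff_mul_comm] at this
      · rw [← map_mul, ← map_mul, Core.commute_pCore_pCore hrp hlp hne a ha b hb]
    rw [hF]
    exact ⟨⟨fun a b => Subtype.ext ((mem_centralizer_iff.1 (hle b.2)) a.1 a.2)⟩⟩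
  have := not_sq_dvd_index_of_abelian (h.quotient (frattini G)) hab q
  rwa [hF, index_map_eq _ (QuotientGroup.mk'_surjective _)
    (by rw [QuotientGroup.ker_mk']; exact Core.frattini_le_fittingSubgroup)] at this

theorem squarefree_of_forall {n : ℕ} (h : ∀ q : ℕ, q.Prime → ¬ q ^ 2 ∣ n) : Squarefree n := by
  intro x hx
  by_contra hu
  obtain ⟨q, hq, hd⟩ := Nat.exists_prime_and_dvd (n := x) (fun h => hu (Nat.isUnit_iff.2 h))
  exact h q hq (((pow_dvd_pow_of_dvd hd 2).trans (by rw [sq])).trans hx)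

theorem CSF.squarefree_index (h : CSF G) : Squarefree (fittingSubgroup G).index :=
  squarefree_of_forall fun q hq => haveI := Fact.mk hq; h.not_sq_dvd_index q

theorem CSF.isCyclic_quotient (h : CSF G) [(fittingSubgroup G).Normal] :
    IsCyclic (G ⧸ fittingSubgroup G) := by
  haveI : IsMulCommutative (G ⧸ fittingSubgroup G) :=
    ⟨⟨fun a b => by
      obtain ⟨a, rfl⟩ := QuotientGroup.mk'_surjective _ a
      obtain ⟨b, rfl⟩ := QuotientGroup.mk'_surjective _ b
      refine commutatorElement_eq_one_iff_mul_comm.1 ?_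
      rw [← map_commutatorElement]
      exact (QuotientGroup.eq_one_iff _).2
        (commutator_le_fitting h (commutator_mem_commutator (mem_top _) (mem_top _)))⟩⟩
  haveI : Group.IsNilpotent (G ⧸ fittingSubgroup G) :=
    letI : CommGroup (G ⧸ fittingSubgroup G) :=
      { (inferInstance : Group (G ⧸ fittingSubgroup G)) with mul_comm := ‹IsMulCommutative _›.is_comm.comm }
    CommGroup.isNilpotent
  haveI : IsZGroup (G ⧸ fittingSubgroup G) :=
    IsZGroup.of_squarefree (by rw [← Subgroup.index_eq_card]; exact h.squarefree_index)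
  infer_instance

end CfsgLib.ClassSizes.SquareFree
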